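import Mathlib
import Cfsg.Agent.S0144
import Cfsg.Agent.Lib.TwoClassSizes.Basic

/-!
Groups in which the centralisers of the non-central elements have two orders: basic facts.
-/

set_option autoImplicit false
set_option linter.unusedSectionVars false
set_option linter.style.haveILetI false

namespace CfsgLib.ClassSizesThree

variable {G : Type*} [Group G] [Finite G]

/-- The centraliser of an element. -/
abbrev C (x : G) : Subgroup G := Subgroup.centralizer {x}

theorem mem_C {x y : G} : y ∈ C x ↔ Commute y x := Subgroup.mem_centralizer_singleton_iff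

theorem self_mem_C (x : G) : x ∈ C x := mem_C.mpr (Commute.refl x)

theorem mem_C_symm {x y : G} (h : y ∈ C x) : x ∈ C y := mem_C.mpr (mem_C.mp h).symm

theorem center_le_C (x : G) : Subgroup.center G ≤ C x := Subgroup.center_le_centralizer _

theorem C_eq_top_iff {x : G} : C x = ⊤ ↔ x ∈ Subgroup.center G := by
  rw [Subgroup.mem_center_iff, eq_top_iff]
  exact ⟨fun h g => (mem_C.mp (h (Subgroup.mem_top g))).eq, fun h g _ => mem_C.mpr (h g)⟩

theorem C_le_of_mem_zpowers {x y : G} (hy : y ∈ Subgroup.zpowers x) : C x ≤ C y := by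
  obtain ⟨i, rfl⟩ := hy
  exact fun g hg => mem_C.mpr ((mem_C.mp hg).zpow_right i)

theorem C_conj (g x : G) : C (g * x * g⁻¹) = (C x).map (MulAut.conj g).toMonoidHom := by
  ext z
  rw [Subgroup.mem_map_equiv, mem_C, mem_C, MulAut.conj_symm_apply]
  constructor
  · intro h
    show g⁻¹ * z * g * x = x * (g⁻¹ * z * g)
    calc g⁻¹ * z * g * x = g⁻¹ * (z * (g * x * g⁻¹)) * g := by group
      _ = g⁻¹ * (g * x * g⁻¹ * z) * g := by rw [h.eq]
      _ = x * (g⁻¹ * z * g) := by group
  · intro h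
    show z * (g * x * g⁻¹) = g * x * g⁻¹ * z
    calc z * (g * x * g⁻¹) = g * (g⁻¹ * z * g * x) * g⁻¹ := by group
      _ = g * (x * (g⁻¹ * z * g)) * g⁻¹ := by rw [h.eq]
      _ = g * x * g⁻¹ * z := by group

theorem card_C_conj (g x : G) : Nat.card (C (g * x * g⁻¹)) = Nat.card (C x) := by
  rw [C_conj]
  exact Subgroup.card_map_of_injective (MulAut.conj g).injective

theorem mem_center_of_conj {g x : G} (h : g * x * g⁻¹ ∈ Subgroup.center G) :
    x ∈ Subgroup.center G := by
  simpa [mul_assoc] using (inferInstance : (Subgroup.center G).Normal).conj_mem _ h g⁻¹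

/-- For commuting elements of coprime orders, `C (x * y) = C x ⊓ C y`. -/
theorem C_mul {x y : G} (hc : Commute x y) (ho : (orderOf x).Coprime (orderOf y)) :
    C (x * y) = C x ⊓ C y := by
  refine le_antisymm (fun g hg => ?_) fun g ⟨hx, hy⟩ =>
    mem_C.mpr ((mem_C.mp hx).mul_right (mem_C.mp hy))
  have key : ∀ x y : G, Commute x y → (orderOf x).Coprime (orderOf y) →
      x ∈ Subgroup.zpowers (x * y) := by
    intro x y hc ho
    obtain ⟨s, t, hst⟩ := Nat.Coprime.isCoprime ho
    refine ⟨t * orderOf y, ?_⟩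
    show (x * y) ^ _ = x
    rw [hc.mul_zpow, mul_comm t _, zpow_mul y, zpow_natCast, pow_orderOf_eq_one, one_zpow, mul_one]
    conv_rhs => rw [← zpow_one x, ← hst]
    rw [zpow_add, mul_comm s, zpow_mul x _ s, zpow_natCast x, pow_orderOf_eq_one, one_zpow,
      one_mul, mul_comm t]
  refine ⟨C_le_of_mem_zpowers (key x y hc ho) hg, C_le_of_mem_zpowers (x := x * y) ?_ hg⟩
  rw [hc.eq]
  exact key y x hc.symm ho.symm

/-- `x` has order a power of `p`. -/
def IsPEl (p : ℕ) (x : G) : Prop := ∃ j : ℕ, orderOf x = p ^ j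

theorem IsPEl.of_pow {p : ℕ} [hp : Fact p.Prime] {x : G} {j : ℕ} (h : x ^ p ^ j = 1) :
    IsPEl p x := by
  obtain ⟨i, -, hi⟩ := (Nat.dvd_prime_pow hp.out).mp (orderOf_dvd_of_pow_eq_one h)
  exact ⟨i, hi⟩

theorem IsPEl.conj {p : ℕ} {x : G} (h : IsPEl p x) (g : G) : IsPEl p (g * x * g⁻¹) := by
  obtain ⟨j, hj⟩ := h
  exact ⟨j, by
    rw [← hj]
    exact orderOf_injective (MulAut.conj g).toMonoidHom (MulAut.conj g).injective x⟩

theorem IsPEl.isPGroup {p : ℕ} [Fact p.Prime] {x : G} (h : IsPEl p x) :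
    IsPGroup p (Subgroup.zpowers x) := by
  obtain ⟨j, hj⟩ := h
  exact IsPGroup.of_card (n := j) (by rw [Nat.card_zpowers, hj])

theorem isPEl_of_isPGroup {p : ℕ} [Fact p.Prime] {H : Subgroup G} (h : IsPGroup p H) {x : G}
    (hx : x ∈ H) : IsPEl p x := by
  obtain ⟨j, hj⟩ := IsPGroup.iff_orderOf.mp h ⟨x, hx⟩
  exact ⟨j, by rw [← hj, ← Subgroup.orderOf_coe]⟩

theorem IsPEl.coprime {p q : ℕ} [hp : Fact p.Prime] [hq : Fact q.Prime] (hne : p ≠ q) {x y : G}
    (hx : IsPEl p x) (hy : IsPEl q y) : (orderOf x).Coprime (orderOf y) := by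
  obtain ⟨i, hi⟩ := hx
  obtain ⟨j, hj⟩ := hy
  rw [hi, hj]
  exact ((Nat.coprime_primes hp.out hq.out).mpr hne).pow i j

/-- A non-central element has a non-central power of prime power order. -/
theorem exists_primePart {g : G} (hg : g ∉ Subgroup.center G) :
    ∃ (p : ℕ) (_ : Fact p.Prime) (y : G), y ∈ Subgroup.zpowers g ∧ IsPEl p y ∧
      y ∉ Subgroup.center G := by
  by_contra hcon
  push Not at hcon
  apply hg
  suffices h : ∀ n : ℕ, ∀ x ∈ Subgroup.zpowers g, orderOf x = n → x ∈ Subgroup.center G from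
    h _ g (Subgroup.mem_zpowers g) rfl
  intro n
  induction n using Nat.strong_induction_on with
  | _ n IH =>
  intro x hx hn
  rcases eq_or_ne n 1 with rfl | hn1
  · rw [orderOf_eq_one_iff.mp hn]; exact one_mem _
  obtain ⟨p, hp, hpd⟩ := Nat.exists_prime_and_dvd hn1
  haveI := Fact.mk hp
  obtain ⟨a, m, hm, hnm⟩ := Nat.exists_eq_pow_mul_and_not_dvd
    (hn ▸ (orderOf_pos x).ne' : n ≠ 0) p hp.ne_one
  obtain ⟨s, t, hst⟩ := Nat.Coprime.isCoprime
    ((hp.coprime_iff_not_dvd.mpr hm).pow_left a)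
  have hx1 : x ^ (n : ℤ) = 1 := by rw [zpow_natCast, ← hn, pow_orderOf_eq_one]
  have e : x = x ^ (t * (m : ℤ)) * x ^ (s * ((p ^ a : ℕ) : ℤ)) := by
    rw [← zpow_add]
    conv_lhs => rw [← zpow_one x, ← hst]
    rw [add_comm]
  have h1 : IsPEl p (x ^ (t * (m : ℤ))) := IsPEl.of_pow (j := a) (by
    rw [← zpow_natCast, ← zpow_mul,
      show t * (m : ℤ) * ((p ^ a : ℕ) : ℤ) = (n : ℤ) * t by rw [hnm]; push_cast; ring, zpow_mul,
      hx1, one_zpow])
  have ha : 0 < a := Nat.pos_of_ne_zero fun e0 => hm (by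
    rw [hnm, e0, pow_zero, one_mul] at hpd
    exact hpd)
  have h2 : orderOf (x ^ (s * ((p ^ a : ℕ) : ℤ))) < n := by
    refine lt_of_le_of_lt (Nat.le_of_dvd (Nat.pos_of_ne_zero fun e0 => ?_)
      (orderOf_dvd_of_pow_eq_one (n := m) ?_)) ?_
    · exact hm (e0 ▸ dvd_zero p)
    · rw [← zpow_natCast, ← zpow_mul,
        show s * ((p ^ a : ℕ) : ℤ) * (m : ℤ) = (n : ℤ) * s by rw [hnm]; push_cast; ring, zpow_mul,
        hx1, one_zpow]
    · rw [hnm]
      exact lt_mul_left (Nat.pos_of_ne_zero fun e0 => hm (e0 ▸ dvd_zero p))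
        (Nat.one_lt_pow ha.ne' hp.one_lt)
  rw [e]
  exact Subgroup.mul_mem _ (hcon p ⟨hp⟩ _ (Subgroup.zpow_mem _ hx _) h1)
    (IH _ h2 _ (Subgroup.zpow_mem _ hx _) rfl)

/-- The exponent of `p` in the order of a subgroup. -/
noncomputable def vp (p : ℕ) (H : Subgroup G) : ℕ := (Nat.card H).factorization p

theorem vp_le {p : ℕ} {H K : Subgroup G} (h : H ≤ K) : vp p H ≤ vp p K :=
  (Nat.factorization_le_iff_dvd Nat.card_pos.ne' Nat.card_pos.ne').mpr
    (Subgroup.card_dvd_of_le h) p

theorem vp_congr {p : ℕ} {H K : Subgroup G} (h : Nat.card H = Nat.card K) : vp p H = vp p K := by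
  rw [vp, vp, h]

/-- A `p`-subgroup of `H` has order dividing `p ^ vp p H`. -/
theorem card_le_of_isPGroup {p : ℕ} [hp : Fact p.Prime] {Q H : Subgroup G} (hQ : IsPGroup p Q)
    (h : Q ≤ H) : Nat.card Q ≤ p ^ vp p H := by
  obtain ⟨k, hk⟩ := IsPGroup.iff_card.mp hQ
  rw [hk]
  exact Nat.pow_le_pow_right hp.out.pos
    ((hp.out.pow_dvd_iff_le_factorization Nat.card_pos.ne').mp (hk ▸ Subgroup.card_dvd_of_le h))

theorem exists_sylow_of_le {p : ℕ} [Fact p.Prime] (H : Subgroup G) :
    ∃ Q : Subgroup G, Q ≤ H ∧ IsPGroup p Q ∧ Nat.card Q = p ^ vp p H := by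
  obtain ⟨S⟩ : Nonempty (Sylow p H) := inferInstance
  exact ⟨(S : Subgroup H).map H.subtype, Subgroup.map_subtype_le _, S.2.map _,
    by rw [Subgroup.card_map_of_injective H.subtype_injective, S.card_eq_multiplicity]; rfl⟩

/-- Adjoining a `p`-element outside `Y` centralising `Y` raises the exponent of `p`. -/
theorem vp_lt {p : ℕ} [hp : Fact p.Prime] {Y X : Subgroup G} (hYX : Y ≤ X) {v : G} (hvX : v ∈ X)
    (hv : IsPEl p v) (hvY : v ∉ Y) (hc : ∀ y ∈ Y, Commute v y) : vp p Y < vp p X := by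
  obtain ⟨Q, hQY, hQ, hQc⟩ := exists_sylow_of_le (p := p) Y
  have hn : Subgroup.zpowers v ≤ Subgroup.normalizer (Q : Set G) := by
    refine (Subgroup.zpowers_le.mpr ?_).trans (Subgroup.centralizer_le_normalizer _)
    exact Subgroup.mem_centralizer_iff.mpr fun y hy => (hc y (hQY hy)).symm.eq
  have hp' := IsPGroup.to_sup_of_normal_right' hv.isPGroup hQ hn
  have h1 := card_le_of_isPGroup hp' (sup_le (Subgroup.zpowers_le.mpr hvX) (hQY.trans hYX))
  have h2 : Nat.card Q < Nat.card (Subgroup.zpowers v ⊔ Q : Subgroup G) := by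
    refine lt_of_le_of_ne (Subgroup.card_le_of_le le_sup_right) fun e => hvY (hQY ?_)
    rw [Subgroup.eq_of_le_of_card_ge le_sup_right e.ge]
    exact Subgroup.mem_sup_left (Subgroup.mem_zpowers v)
  rw [hQc] at h2
  exact (Nat.pow_lt_pow_iff_right hp.out.one_lt).mp (h2.trans_le h1)

/-- `T`: the primes with a non-central element of that prime power order. -/
theorem exists_pEl_notMem {p : ℕ} [hp : Fact p.Prime] (h : p ∣ (Subgroup.center G).index) :
    ∃ v : G, IsPEl p v ∧ v ∉ Subgroup.center G := by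
  by_contra hcon
  push Not at hcon
  obtain ⟨P⟩ : Nonempty (Sylow p G) := inferInstance
  exact P.not_dvd_index (h.trans (Subgroup.index_dvd_of_le fun x hx =>
    hcon x (isPEl_of_isPGroup P.2 hx)))

theorem dvd_index_center {p : ℕ} [hp : Fact p.Prime] {v : G} (hv : IsPEl p v)
    (hvZ : v ∉ Subgroup.center G) : p ∣ (Subgroup.center G).index := by
  rw [Subgroup.index_eq_card]
  obtain ⟨j, hj⟩ := hv
  have h1 : orderOf (v : G ⧸ Subgroup.center G) ∣ p ^ j := by
    rw [← hj]
    exact orderOf_map_dvd (QuotientGroup.mk' (Subgroup.center G)) v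
  obtain ⟨i, -, hi⟩ := (Nat.dvd_prime_pow hp.out).mp h1
  refine (dvd_trans ?_ (orderOf_dvd_natCard (v : G ⧸ Subgroup.center G)))
  rw [hi]
  refine dvd_pow_self p fun e => hvZ ?_
  rw [e, pow_zero, orderOf_eq_one_iff, QuotientGroup.eq_one_iff] at hi
  exact hi

/-- A nonsolvable group has three primes in `[G : Z(G)]`. -/
theorem exists_third_prime (hns : ¬ Group.IsSolvable G) {p q : ℕ} (hp : p.Prime) (hq : q.Prime) :
    ∃ r : ℕ, r.Prime ∧ r ∣ (Subgroup.center G).index ∧ r ≠ p ∧ r ≠ q := by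
  by_contra hcon
  push Not at hcon
  apply hns
  set n := (Subgroup.center G).index with hn
  have hn0 : n ≠ 0 := Subgroup.index_ne_zero_of_finite
  haveI : Group.IsSolvable (G ⧸ Subgroup.center G) := by
    rcases eq_or_ne p q with rfl | hpq
    · refine Cfsg.Agent.S0144.result p p (n.primeFactorsList.length) 0 hp hp ?_
      rw [← Subgroup.index_eq_card, pow_zero, mul_one]
      exact Nat.eq_prime_pow_of_unique_prime_dvd hn0 fun {d} hd hdn => by
        by_contra hne
        exact hne (hcon d hd hdn hne)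
    · refine Cfsg.Agent.S0144.result p q (n.factorization p) (n.factorization q) hp hq ?_
      rw [← Subgroup.index_eq_card]
      apply Nat.eq_of_factorization_eq hn0
        (Nat.mul_ne_zero (pow_ne_zero _ hp.ne_zero) (pow_ne_zero _ hq.ne_zero))
      intro r
      rw [Nat.factorization_mul (pow_ne_zero _ hp.ne_zero) (pow_ne_zero _ hq.ne_zero),
        hp.factorization_pow, hq.factorization_pow, Finsupp.add_apply, Finsupp.single_apply,
        Finsupp.single_apply]
      rcases eq_or_ne r p with rfl | hrp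
      · simp [hpq.symm]
      rcases eq_or_ne r q with rfl | hrq
      · simp [hpq]
      simp only [hrp.symm, hrq.symm, if_false, add_zero]
      rw [Nat.factorization_eq_zero_iff]
      by_cases hr : r.Prime
      · by_cases hrn : r ∣ n
        · exact absurd (hcon r hr hrn hrp) hrq
        · exact Or.inr (Or.inl hrn)
      · exact Or.inl hr
  haveI : Group.IsSolvable (Subgroup.center G) :=
    Group.isSolvable_of_comm fun x y => Subtype.ext ((Subgroup.mem_center_iff.mp y.2 x).symm).symm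
  exact Group.isSolvable_of_ker_le_range (Subgroup.center G).subtype
    (QuotientGroup.mk' (Subgroup.center G))
    (by rw [QuotientGroup.ker_mk', Subgroup.range_subtype])

variable (G) in
/-- Exactly two centraliser orders `b < a` of non-central elements. -/
structure Sizes (a b : ℕ) : Prop where
  lt : b < a
  size : ∀ x : G, x ∉ Subgroup.center G → Nat.card (C x) = a ∨ Nat.card (C x) = b
  exA : ∃ x : G, x ∉ Subgroup.center G ∧ Nat.card (C x) = a
  exB : ∃ x : G, x ∉ Subgroup.center G ∧ Nat.card (C x) = b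

variable {a b : ℕ}

theorem Sizes.b_pos (h : Sizes G a b) : 0 < b := by
  obtain ⟨x, -, hx⟩ := h.exB
  exact hx ▸ Nat.card_pos

theorem Sizes.le (h : Sizes G a b) {x : G} (hx : x ∉ Subgroup.center G) :
    b ≤ Nat.card (C x) := by
  rcases h.size x hx with e | e <;> rw [e]
  exact h.lt.le

/-- Non-central elements: `C x ⊓ C u` for commuting elements of coprime orders has one of the two
orders. -/
theorem Sizes.inf_size (h : Sizes G a b) {x u : G} (hx : x ∉ Subgroup.center G)
    (hc : Commute x u) (ho : (orderOf x).Coprime (orderOf u)) :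
    Nat.card (C x ⊓ C u : Subgroup G) = a ∨ Nat.card (C x ⊓ C u : Subgroup G) = b := by
  rw [← C_mul hc ho]
  refine h.size _ fun hz => hx ?_
  have := C_eq_top_iff.mpr hz
  rw [C_mul hc ho] at this
  exact C_eq_top_iff.mp (eq_top_iff.mpr (this.ge.trans inf_le_left))

/-- In a smallest centraliser, elements of coprime order to its element are central. -/
theorem Sizes.C_le_of_min (h : Sizes G a b) {y : G} (hy : y ∉ Subgroup.center G)
    (hb : Nat.card (C y) = b) {u : G} (hu : u ∈ C y) (ho : (orderOf y).Coprime (orderOf u)) :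
    C y ≤ C u := by
  have hle : b ≤ Nat.card (C y ⊓ C u : Subgroup G) := by
    rcases h.inf_size hy (mem_C.mp hu).symm ho with e | e <;> rw [e]
    exact h.lt.le
  exact (Subgroup.eq_of_le_of_card_ge (inf_le_left (b := C u)) (hb ▸ hle)).symm.le.trans
    inf_le_right

/-- For every prime in `[G : Z(G)]` some non-central centraliser lacks a full Sylow subgroup. -/
theorem exists_vp_lt {p : ℕ} [hp : Fact p.Prime] (h : p ∣ (Subgroup.center G).index) :
    ∃ x : G, x ∉ Subgroup.center G ∧ vp p (C x) < (Nat.card G).factorization p := by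
  by_contra hcon
  push Not at hcon
  obtain ⟨P⟩ : Nonempty (Sylow p G) := inferInstance
  have hall : ∀ g : G, ∃ x : G, x⁻¹ * g * x ∈ Subgroup.centralizer ((P : Subgroup G) : Set G) := by
    intro g
    by_cases hg : g ∈ Subgroup.center G
    · exact ⟨1, by simpa using Subgroup.center_le_centralizer _ hg⟩
    obtain ⟨Q, hQ, hQp, hQc⟩ := exists_sylow_of_le (p := p) (C g)
    have hnd : Nat.card Q = p ^ (Nat.card G).factorization p := by
      refine le_antisymm ?_ (hQc ▸ Nat.pow_le_pow_right hp.out.pos (hcon g hg))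
      obtain ⟨Q', hQ'⟩ := hQp.exists_le_sylow
      exact (Subgroup.card_le_of_le hQ').trans_eq Q'.card_eq_multiplicity
    obtain ⟨x, hx⟩ := MulAction.exists_smul_eq G P (Sylow.ofCard Q hnd)
    refine ⟨x, Subgroup.mem_centralizer_iff.mpr fun y hy => ?_⟩
    have hyQ : x * y * x⁻¹ ∈ Q := by
      have : MulAut.conj x y ∈ ((x • P : Sylow p G) : Subgroup G) := by
        rw [Sylow.coe_subgroup_smul]
        exact Subgroup.smul_mem_pointwise_smul y _ _ hy
      rw [hx, Sylow.coe_ofCard] at this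
      exact this
    have hc := (mem_C.mp (hQ hyQ)).eq
    calc y * (x⁻¹ * g * x) = x⁻¹ * (x * y * x⁻¹ * g) * x := by group
      _ = x⁻¹ * (g * (x * y * x⁻¹)) * x := by rw [hc]
      _ = x⁻¹ * g * x * y := by group
  have htop := CfsgLib.TwoClassSizes.eq_top_of_conj_cover hall
  refine P.not_dvd_index (h.trans (Subgroup.index_dvd_of_le fun y hy => ?_))
  rw [Subgroup.mem_center_iff]
  exact fun g => ((Subgroup.mem_centralizer_iff.mp (htop ▸ Subgroup.mem_top g)) y hy).symm

/-- A `p`-element of a non-central centraliser outside `Z(G)` shows `Z(G)` is `p`-smaller. -/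
theorem vp_center_lt {p : ℕ} [Fact p.Prime] {X : Subgroup G} (hX : Subgroup.center G ≤ X) {v : G}
    (hvX : v ∈ X) (hv : IsPEl p v) (hvZ : v ∉ Subgroup.center G) :
    vp p (Subgroup.center G) < vp p X :=
  vp_lt hX hvX hv hvZ fun y hy => Subgroup.mem_center_iff.mp hy v

/-- The exponent of `p` in each of the two orders exceeds that of the centre somewhere. -/
theorem exists_center_lt {p : ℕ} [Fact p.Prime] (h : p ∣ (Subgroup.center G).index) :
    ∃ x : G, x ∉ Subgroup.center G ∧ vp p (Subgroup.center G) < vp p (C x) := by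
  obtain ⟨v, hv, hvZ⟩ := exists_pEl_notMem h
  exact ⟨v, hvZ, vp_center_lt (center_le_C v) (self_mem_C v) hv hvZ⟩

end CfsgLib.ClassSizesThree
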