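import Mathlib
import Cfsg.Agent.S0016
import Cfsg.Agent.S0205
import Cfsg.Agent.S0201
import Cfsg.Agent.Lib.PrimePower.Nonsolvable
import Cfsg.Agent.Lib.CaminaHerzog.Operators

/-!
Groups acting semiregularly, outside a fixed subgroup, on a commutative `r`-group. Used for
groups with three class sizes.
-/

set_option autoImplicit false
set_option linter.unusedSectionVars false
set_option linter.style.haveILetI false

namespace CfsgLib.ClassSizesThree

variable {W V : Type*} [Group W] [Finite W] [CommGroup V] [Finite V]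
  (φ : W →* MulAut V)

/-- The subgroup generated by the elements `φ h v / v`. -/
def moved (H : Subgroup W) : Subgroup V :=
  Subgroup.closure {d | ∃ h ∈ H, ∃ v, φ h v / v = d}

theorem moved_eq_bot_iff {H : Subgroup W} :
    moved φ H = ⊥ ↔ ∀ h ∈ H, ∀ v, φ h v = v := by
  rw [moved, Subgroup.closure_eq_bot_iff]
  refine ⟨fun h x hx v => div_eq_one.mp (h ⟨x, hx, v, rfl⟩), ?_⟩
  rintro h _ ⟨x, hx, v, rfl⟩
  rw [Set.mem_singleton_iff, div_eq_one]
  exact h x hx v

theorem mem_moved_of_normalizes {H : Subgroup W} {g : W}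
    (hg : g ∈ Subgroup.normalizer (H : Set W)) {d : V} (hd : d ∈ moved φ H) :
    φ g d ∈ moved φ H := by
  have hle : moved φ H ≤ (moved φ H).comap (φ g).toMonoidHom := by
    rw [moved, Subgroup.closure_le]
    rintro _ ⟨h, hh, v, rfl⟩
    refine Subgroup.subset_closure ⟨g * h * g⁻¹, (Subgroup.mem_normalizer_iff.mp hg h).mp hh,
      φ g v, ?_⟩
    simp [map_mul, map_inv]
  exact hle hd

/-- An element of `moved φ H` fixed by `H` is trivial, for `H` of order prime to `r`. -/
theorem eq_one_of_mem_moved {r : ℕ} [Fact r.Prime] (hV : IsPGroup r V) {H : Subgroup W}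
    (hH : ¬ r ∣ Nat.card H) {d : V} (hd : d ∈ moved φ H) (hfix : ∀ h ∈ H, φ h d = d) : d = 1 := by
  classical
  haveI : Fintype H := Fintype.ofFinite H
  let N : V →* V :=
    { toFun := fun v => ∏ h : H, φ h v
      map_one' := Finset.prod_eq_one fun h _ => map_one _
      map_mul' := fun a b => by simp only [map_mul, Finset.prod_mul_distrib] }
  have hle : moved φ H ≤ N.ker := by
    rw [moved, Subgroup.closure_le]
    rintro _ ⟨h, hh, v, rfl⟩
    rw [SetLike.mem_coe, MonoidHom.mem_ker, map_div, div_eq_one]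
    show ∏ k : H, φ k (φ h v) = ∏ k : H, φ k v
    exact Fintype.prod_equiv (Equiv.mulRight (⟨h, hh⟩ : H)) _ _ fun k => by
      simp [map_mul]
  have h1 : d ^ Nat.card H = 1 := by
    have h2 : ∏ h : H, φ h d = 1 := MonoidHom.mem_ker.mp (hle hd)
    rw [Finset.prod_congr rfl fun (h : H) _ => hfix h h.2, Finset.prod_const, Finset.card_univ,
      ← Nat.card_eq_fintype_card] at h2
    exact h2
  obtain ⟨k, hk⟩ := IsPGroup.iff_orderOf.mp hV d
  rw [← orderOf_eq_one_iff]
  refine Nat.eq_one_of_dvd_coprimes (a := r ^ k) ?_ (hk ▸ dvd_rfl) (orderOf_dvd_of_pow_eq_one h1)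
  exact (((Fact.out : r.Prime).coprime_iff_not_dvd.mpr hH).pow_left k)

/-- An `r`-element fixes a nontrivial element in an invariant nontrivial subgroup. -/
theorem exists_fixed_mem {r : ℕ} [Fact r.Prime] (hV : IsPGroup r V) {D : Subgroup V}
    (hD : D ≠ ⊥) {g : W} (hg : ∀ d ∈ D, φ g d ∈ D) (hgp : IsPGroup r (Subgroup.zpowers g)) :
    ∃ d ∈ D, d ≠ 1 ∧ φ g d = d := by
  have hpow : ∀ w ∈ Subgroup.zpowers g, ∀ d ∈ D, φ w d ∈ D := by
    intro w hw
    rw [← mem_powers_iff_mem_zpowers, Submonoid.mem_powers_iff] at hw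
    obtain ⟨n, rfl⟩ := hw
    induction n with
    | zero => intro d hd; simpa using hd
    | succ n ih =>
      intro d hd
      rw [pow_succ', map_mul, MulAut.mul_apply]
      exact hg _ (ih d hd)
  letI : MulAction (Subgroup.zpowers g) D :=
    { smul := fun w d => ⟨φ w d, hpow w w.2 d d.2⟩
      one_smul := fun d => Subtype.ext (show φ ((1 : Subgroup.zpowers g) : W) d = d by simp)
      mul_smul := fun a b d => Subtype.ext
        (show φ ((a * b : Subgroup.zpowers g) : W) d = φ a (φ b d) by simp [map_mul]) }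
  haveI : Nontrivial D := (Subgroup.nontrivial_iff_ne_bot D).mpr hD
  have hdvd : r ∣ Nat.card D := by
    obtain ⟨k, hk0, hk⟩ := (hV.to_subgroup D).nontrivial_iff_card.mp inferInstance
    exact hk ▸ dvd_pow_self r hk0.ne'
  obtain ⟨b, hb, hb1⟩ := hgp.exists_fixed_point_of_prime_dvd_card_of_fixed_point D hdvd
    (a := 1) (fun w => Subtype.ext (show φ w (1 : D) = (1 : D) by simp))
  exact ⟨b, b.2, fun e => hb1 (Subtype.ext e.symm),
    congrArg Subtype.val (hb ⟨g, Subgroup.mem_zpowers g⟩)⟩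

/-- `W` acts on the `r`-group `V`, fixing `Z0` pointwise, and every nontrivial element fixes
nothing outside `Z0`. -/
structure Semi (Z0 : Subgroup V) (r : ℕ) : Prop where
  isP : IsPGroup r V
  triv : ∀ (w : W), ∀ v ∈ Z0, φ w v = v
  fix : ∀ w : W, w ≠ 1 → ∀ v, φ w v = v → v ∈ Z0
  ne : Z0 ≠ ⊤

variable {φ} {Z0 : Subgroup V} {r : ℕ} [hr : Fact r.Prime]

/-- An `r`-element normalises no nontrivial `r'`-subgroup. -/
theorem Semi.eq_one_of_normalizes (h : Semi φ Z0 r) {H : Subgroup W} (hH : ¬ r ∣ Nat.card H)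
    (hne : H ≠ ⊥) {g : W} (hg : g ∈ Subgroup.normalizer (H : Set W))
    (hgp : IsPGroup r (Subgroup.zpowers g)) : g = 1 := by
  by_contra hg1
  have hD : moved φ H ≠ ⊥ := by
    rw [Ne, moved_eq_bot_iff]
    intro hall
    obtain ⟨x, hx, hx1⟩ : ∃ x ∈ H, x ≠ 1 := (Subgroup.bot_or_exists_ne_one H).resolve_left hne
    exact h.ne (eq_top_iff.mpr fun v _ => h.fix x hx1 v (hall x hx v))
  obtain ⟨d, hd, hd1, hdf⟩ :=
    exists_fixed_mem φ h.isP hD (fun d hd => mem_moved_of_normalizes φ hg hd) hgp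
  exact hd1 (eq_one_of_mem_moved φ h.isP hH hd fun x _ => h.triv x d (h.fix g hg1 d hdf))

/-- The power of `x` with exponent in `ZMod q`. -/
def pw {q : ℕ} (x : W) (a : ZMod q) : W := x ^ a.val

theorem pw_add {q : ℕ} [NeZero q] {x : W} (hx : x ^ q = 1) (a b : ZMod q) :
    pw x (a + b) = pw x a * pw x b := by
  rw [pw, pw, pw, ← pow_add, ZMod.val_add, ← pow_eq_pow_mod _ hx]

theorem pw_zero {q : ℕ} [NeZero q] (x : W) : pw x (0 : ZMod q) = 1 := by simp [pw]

theorem pw_natCast {q : ℕ} [NeZero q] {x : W} (hx : x ^ q = 1) (n : ℕ) :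
    pw x (n : ZMod q) = x ^ n := by
  rw [pw, ZMod.val_natCast, ← pow_eq_pow_mod _ hx]

theorem pw_neg {q : ℕ} [NeZero q] {x : W} (hx : x ^ q = 1) (a : ZMod q) :
    pw x (-a) = (pw x a)⁻¹ :=
  eq_inv_of_mul_eq_one_left (by rw [← pw_add hx, neg_add_cancel, pw_zero])

/-- The lines argument: `v ^ q` is fixed. -/
theorem Semi.pow_mem_of_lines (h : Semi φ Z0 r) {q m : ℕ} [Fact q.Prime] (hm : m.Prime)
    {x u : W} (hx : x ^ q = 1) (hx1 : x ≠ 1) (w : ZMod q → W) (hw1 : ∀ i, w i ≠ 1)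
    (hwm : ∀ i, w i ^ m = 1) (e : ℕ → ZMod q → ZMod q)
    (he : ∀ j, j + 1 < m → Function.Bijective (e j))
    (hpow : ∀ i j, j + 1 < m → w i ^ (j + 1) = pw x (e j i) * u ^ (j + 1)) (v : V) :
    v ^ q ∈ Z0 := by
  classical
  obtain ⟨k, rfl⟩ : ∃ k, m = k + 1 := ⟨m - 1, by have := hm.two_le; omega⟩
  have hline : ∀ w₀ : W, w₀ ≠ 1 → w₀ ^ (k + 1) = 1 →
      ∏ j ∈ Finset.range (k + 1), φ (w₀ ^ j) v ∈ Z0 := by
    intro w₀ h0 h1
    refine h.fix w₀ h0 _ ?_
    rw [map_prod]
    have e1 := Finset.prod_range_succ' (fun j => φ (w₀ ^ j) v) (k + 1)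
    rw [Finset.prod_range_succ (fun j => φ (w₀ ^ j) v) (k + 1), h1, pow_zero] at e1
    refine Eq.trans (Finset.prod_congr rfl fun j _ => ?_) (mul_right_cancel e1).symm
    rw [pow_succ' w₀ j, map_mul, MulAut.mul_apply]
  have hx' : ∀ v' : V, ∏ a : ZMod q, φ (pw x a) v' ∈ Z0 := by
    intro v'
    refine h.fix x hx1 _ ?_
    rw [map_prod]
    refine Fintype.prod_equiv (Equiv.addLeft (1 : ZMod q)) _ _ fun a => ?_
    rw [Equiv.coe_addLeft, pw_add hx, map_mul, MulAut.mul_apply]
    congr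
    have := pw_natCast (q := q) hx 1
    rw [Nat.cast_one, pow_one] at this
    exact this.symm
  have htot : ∏ i : ZMod q, ∏ j ∈ Finset.range (k + 1), φ (w i ^ j) v ∈ Z0 :=
    Subgroup.prod_mem _ fun i _ => hline (w i) (hw1 i) (hwm i)
  rw [Finset.prod_comm, Finset.prod_range_succ'] at htot
  have hrest : ∏ j ∈ Finset.range k, ∏ i : ZMod q, φ (w i ^ (j + 1)) v ∈ Z0 := by
    refine Subgroup.prod_mem _ fun j hj => ?_
    have hjk : j + 1 < k + 1 := by have := Finset.mem_range.mp hj; omega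
    rw [show ∏ i : ZMod q, φ (w i ^ (j + 1)) v
        = ∏ i : ZMod q, φ (pw x (e j i)) (φ (u ^ (j + 1)) v) from
      Finset.prod_congr rfl fun i _ => by rw [hpow i j hjk, map_mul, MulAut.mul_apply]]
    rw [(he j hjk).prod_comp fun a => φ (pw x a) (φ (u ^ (j + 1)) v)]
    exact hx' _
  have hz := (Subgroup.mul_mem_cancel_left Z0 hrest).mp htot
  simpa [Finset.prod_const, Finset.card_univ, ZMod.card] using hz

theorem Semi.mem_of_pow (h : Semi φ Z0 r) {q : ℕ} [hq : Fact q.Prime] (hqr : q ≠ r) {v : V}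
    (hv : v ^ q ∈ Z0) : v ∈ Z0 := by
  have hc : (Nat.card V).Coprime q := by
    obtain ⟨k, hk⟩ := IsPGroup.iff_card.mp h.isP
    rw [hk]
    exact ((Nat.coprime_primes hr.out hq.out).mpr hqr.symm).pow_left k
  obtain ⟨n, hn⟩ := exists_pow_eq_self_of_coprime
    ((hc.coprime_dvd_left (orderOf_dvd_natCard v)).symm)
  rw [← hn]
  exact Z0.pow_mem hv n

theorem Semi.false_of_all_pow (h : Semi φ Z0 r) {q : ℕ} [hq : Fact q.Prime] (hqr : q ≠ r)
    (hall : ∀ v : V, v ^ q ∈ Z0) : False :=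
  h.ne (eq_top_iff.mpr fun v _ => h.mem_of_pow hqr (hall v))

/-- Two commuting elements of order `q ≠ r` generate a cyclic group. -/
theorem Semi.mem_zpowers_of_commute (h : Semi φ Z0 r) {q : ℕ} [hq : Fact q.Prime] (hqr : q ≠ r)
    {x y : W} (hx : x ^ q = 1) (hx1 : x ≠ 1) (hy : y ^ q = 1) (hc : Commute x y) :
    y ∈ Subgroup.zpowers x := by
  by_contra hyx
  have hxi : ∀ i : ZMod q, pw x i ∈ Subgroup.zpowers x := fun i =>
    Subgroup.pow_mem _ (Subgroup.mem_zpowers x) _
  refine h.false_of_all_pow hqr (h.pow_mem_of_lines hq.out (u := y) hx hx1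
    (fun i => pw x i * y) (fun i e => hyx ?_) (fun i => ?_)
    (fun j i => ((j + 1 : ℕ) : ZMod q) * i) (fun j hj => ?_) (fun i j _ => ?_))
  · rw [eq_inv_of_mul_eq_one_right e]
    exact inv_mem (hxi i)
  · rw [(show Commute (pw x i) y from hc.pow_left _).mul_pow, hy, mul_one, pw, ← pow_mul,
      mul_comm, pow_mul, hx, one_pow]
  · refine (mulLeft_bijective₀ _ fun h0 => ?_)
    rw [ZMod.natCast_eq_zero_iff] at h0
    exact absurd (Nat.le_of_dvd (by omega) h0) (by omega)
  · rw [(show Commute (pw x i) y from hc.pow_left _).mul_pow]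
    congr 1
    rw [pw, ← pow_mul, ← pw_natCast (q := q) hx]
    congr 1
    rw [Nat.cast_mul, ZMod.natCast_zmod_val, mul_comm]

/-- An element of prime order normalising a subgroup of order `q ≠ r` centralises it. -/
theorem Semi.commute_of_normalizes (h : Semi φ Z0 r) {q m : ℕ} [hq : Fact q.Prime]
    (hqr : q ≠ r) (hm : m.Prime) {x t : W} (hx : x ^ q = 1) (hx1 : x ≠ 1) (ht : t ^ m = 1)
    (ht1 : t ≠ 1) (hn : t * x * t⁻¹ ∈ Subgroup.zpowers x) : Commute t x := by
  rw [← mem_powers_iff_mem_zpowers, Submonoid.mem_powers_iff] at hn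
  obtain ⟨n, hn⟩ := hn
  have ho : orderOf x = q := orderOf_eq_prime hx hx1
  set c : ZMod q := (n : ZMod q) with hc
  have hinj : ∀ a b : ZMod q, pw x a = pw x b → a = b := by
    intro a b e
    exact ZMod.val_injective q (pow_injOn_Iio_orderOf (by rw [Set.mem_Iio, ho]; exact a.val_lt)
      (by rw [Set.mem_Iio, ho]; exact b.val_lt) e)
  have hone : pw x (1 : ZMod q) = x := by
    have := pw_natCast (q := q) hx 1
    rwa [Nat.cast_one, pow_one] at this
  have hconj : ∀ a : ZMod q, t * pw x a * t⁻¹ = pw x (c * a) := by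
    intro a
    rw [pw, ← conj_pow, ← hn, ← pow_mul, ← pw_natCast (q := q) hx]
    congr 1
    rw [Nat.cast_mul, ZMod.natCast_zmod_val]
  have hconjn : ∀ (j : ℕ) (a : ZMod q), t ^ j * pw x a * (t ^ j)⁻¹ = pw x (c ^ j * a) := by
    intro j
    induction j with
    | zero => intro a; simp
    | succ j ih =>
      intro a
      rw [pow_succ' c, mul_assoc c, ← hconj, ← ih, pow_succ', mul_inv_rev]
      simp only [mul_assoc]
  by_contra hnc
  have hc1 : c ≠ 1 := fun e => hnc (by
    have := hconj 1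
    rw [e, mul_one, hone, mul_inv_eq_iff_eq_mul] at this
    exact this)
  have hcm : c ^ m = 1 := hinj _ _ (by
    have := hconjn m 1
    rw [ht, mul_one, inv_one, mul_one, one_mul] at this
    exact this.symm)
  haveI := Fact.mk hm
  have hoc : orderOf c = m := orderOf_eq_prime hcm hc1
  refine h.false_of_all_pow hqr (h.pow_mem_of_lines hm (u := t) hx hx1
    (fun i => pw x i * t * (pw x i)⁻¹) (fun i e => ht1 ?_) (fun i => ?_)
    (fun j i => (1 - c ^ (j + 1)) * i) (fun j hj => ?_) (fun i j _ => ?_))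
  · rwa [conj_eq_one_iff] at e
  · rw [conj_pow, ht, mul_one, mul_inv_cancel]
  · refine mulLeft_bijective₀ _ fun h0 => ?_
    have := orderOf_dvd_of_pow_eq_one (sub_eq_zero.mp h0).symm
    rw [hoc] at this
    exact absurd (Nat.le_of_dvd (by omega) this) (by omega)
  · have e1 : pw x (-(c ^ (j + 1) * i)) = t ^ (j + 1) * (pw x i)⁻¹ * (t ^ (j + 1))⁻¹ := by
      rw [← pw_neg hx, hconjn, mul_neg]
    rw [conj_pow, sub_mul, one_mul, sub_eq_add_neg, pw_add hx, e1]
    group

/-- Sylow subgroups for primes other than `r` are cyclic or quaternion. -/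
theorem Semi.cyclic_or_quaternion (h : Semi φ Z0 r) {q : ℕ} [hq : Fact q.Prime] (hqr : q ≠ r)
    (Q : Subgroup W) (hQ : IsPGroup q Q) :
    IsCyclic Q ∨ (q = 2 ∧ ∃ n : ℕ, Nonempty (Q ≃* QuaternionGroup (2 ^ n))) := by
  refine Cfsg.Agent.S0016.result q hQ fun H K hH hK => ?_
  haveI : Nontrivial Q := by
    refine Finite.one_lt_card_iff_nontrivial.mp (lt_of_lt_of_le ?_ (Subgroup.card_le_card_group H))
    rw [hH]; exact hq.out.one_lt
  haveI := hQ.center_nontrivial
  obtain ⟨k, hk0, hk⟩ :=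
    (hQ.to_subgroup (Subgroup.center Q)).nontrivial_iff_card.mp inferInstance
  obtain ⟨z, hz⟩ := exists_prime_orderOf_dvd_card' (G := Subgroup.center Q) q
    (hk ▸ dvd_pow_self q hk0.ne')
  have hzo : orderOf ((z : Q) : W) = q := by rw [Subgroup.orderOf_coe, Subgroup.orderOf_coe, hz]
  have key : ∀ L : Subgroup Q, Nat.card L = q → L = Subgroup.zpowers (z : Q) := by
    intro L hL
    refine Subgroup.eq_of_le_of_card_ge (fun y hy => ?_) (by
      rw [hL, Nat.card_zpowers, Subgroup.orderOf_coe, hz])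
    have hy1 : y ^ q = 1 := by
      have e := congrArg Subtype.val (pow_card_eq_one' (x := (⟨y, hy⟩ : L)))
      rw [hL] at e
      simpa using e
    have hc : Commute (z : Q) y := (Subgroup.mem_center_iff.mp z.2 y).symm
    have := h.mem_zpowers_of_commute hqr (x := ((z : Q) : W)) (y := (y : W))
      (by rw [← hzo, pow_orderOf_eq_one]) (fun e => hq.out.ne_one (by rw [← hzo, e, orderOf_one]))
      (by simpa using congrArg Subtype.val hy1) (congrArg Subtype.val hc.eq)
    obtain ⟨i, hi⟩ := this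
    exact ⟨i, Subtype.ext (by simpa using hi)⟩
  rw [key H hH, key K hK]

omit hr

/-- A nontrivial finite group whose Sylow 2-subgroup is cyclic or quaternion has a nontrivial
normal subgroup of prime power order. -/
theorem exists_normal_pgroup_of_sylow_two {X : Type*} [Group X] [Finite X] [Nontrivial X]
    (S : Sylow 2 X)
    (hS : IsCyclic S ∨ ∃ n : ℕ, Nonempty ((S : Subgroup X) ≃* QuaternionGroup (2 ^ n))) :
    ∃ (q : ℕ) (_ : Fact q.Prime) (K : Subgroup X), K.Normal ∧ K ≠ ⊥ ∧ IsPGroup q K := by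
  classical
  have hsol : ∀ R : Subgroup X, R.Normal → R ≠ ⊥ → Group.IsSolvable R →
      ∃ (q : ℕ) (_ : Fact q.Prime) (K : Subgroup X), K.Normal ∧ K ≠ ⊥ ∧ IsPGroup q K := by
    intro R hR hR1 hs
    haveI := hR
    obtain ⟨q, hq, K, hK, -, hK1, hKp⟩ := CfsgLib.PrimePower.exists_normal_pgroup R hs hR1
    exact ⟨q, hq, K, hK, hK1, hKp⟩
  have hcyc : IsCyclic S →
      ∃ (q : ℕ) (_ : Fact q.Prime) (K : Subgroup X), K.Normal ∧ K ≠ ⊥ ∧ IsPGroup q K := by
    intro hc
    haveI : Group.IsSolvable X := by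
      by_cases h2 : 2 ∣ Nat.card X
      · have hmin : (Nat.card X).minFac = 2 := (Nat.minFac_eq_two_iff _).mpr h2
        have hk := IsCyclic.isComplement' hmin hc
        set T := MonoidHom.transferSylow S (hc.normalizer_le_centralizer hmin)
        haveI : Group.IsSolvable T.ker := Cfsg.Agent.S0205.result (by
          rw [Nat.odd_iff, ← Nat.two_dvd_ne_zero]
          intro hd
          exact S.not_dvd_index (hk.index_eq_card ▸ hd))
        exact Group.isSolvable_of_ker_le_range T.ker.subtype T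
          (by rw [Subgroup.range_subtype])
      · exact Cfsg.Agent.S0205.result (Nat.odd_iff.mpr (Nat.two_dvd_ne_zero.mp h2))
    refine hsol ⊤ inferInstance ?_ inferInstance
    exact (Subgroup.nontrivial_iff_ne_bot _).mp Subgroup.topEquiv.toEquiv.nontrivial
  rcases hS with hc | ⟨n, ⟨e⟩⟩
  · exact hcyc hc
  rcases Nat.eq_zero_or_pos n with rfl | hn
  · haveI : IsCyclic (QuaternionGroup (2 ^ 0)) := by
      rw [pow_zero]; exact QuaternionGroup.quaternionGroup_one_isCyclic
    exact hcyc (e.isCyclic.mpr inferInstance)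
  obtain ⟨n, rfl⟩ : ∃ k, n = k + 1 := ⟨n - 1, by omega⟩
  by_cases hO : ∀ N : Subgroup X, N.Normal → Odd (Nat.card N) → N = ⊥
  · have hZ := Cfsg.Agent.S0201.result S n e hO
    refine ⟨2, inferInstance, Subgroup.center X, inferInstance, ?_,
      IsPGroup.of_card (n := 1) (by rw [hZ, pow_one])⟩
    intro e0
    rw [e0, Subgroup.card_bot] at hZ
    omega
  · push Not at hO
    obtain ⟨N, hN, hodd, hN1⟩ := hO
    exact hsol N hN hN1 (Cfsg.Agent.S0205.result hodd)

theorem not_dvd_card_of_isPGroup {X : Type*} [Group X] [Finite X] {p r : ℕ} [Fact p.Prime]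
    [Fact r.Prime] (h : IsPGroup p X) (hne : p ≠ r) : ¬ r ∣ Nat.card X := by
  obtain ⟨k, hk⟩ := IsPGroup.iff_card.mp h
  rw [hk]
  exact fun hd => hne ((Nat.prime_dvd_prime_iff_eq Fact.out Fact.out).mp
    ((Fact.out : r.Prime).dvd_of_dvd_pow hd)).symm

/-- No semiregular group has order divisible by two of the acted-on primes. -/
theorem Semi.false_of_two {V' : Type*} [CommGroup V'] [Finite V'] {φ' : W →* MulAut V'}
    {Z1 : Subgroup V'} {s : ℕ} [Fact r.Prime] [Fact s.Prime] (h : Semi φ Z0 r)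
    (h' : Semi φ' Z1 s) (hrs : r ≠ s) (hr : r ∣ Nat.card W) (hs : s ∣ Nat.card W) : False := by
  obtain ⟨g, hg⟩ := exists_prime_orderOf_dvd_card' r hr
  obtain ⟨g', hg'⟩ := exists_prime_orderOf_dvd_card' s hs
  haveI : Nontrivial W := ⟨g, 1, fun e => (Fact.out : r.Prime).ne_one (by rw [← hg, e, orderOf_one])⟩
  obtain ⟨S⟩ : Nonempty (Sylow 2 W) := inferInstance
  have hS : IsCyclic S ∨ ∃ n : ℕ, Nonempty ((S : Subgroup W) ≃* QuaternionGroup (2 ^ n)) := by
    rcases eq_or_ne 2 r with e | e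
    · rcases h'.cyclic_or_quaternion (fun e' => hrs (e.symm.trans e')) S S.2 with hc | ⟨-, hq⟩
      exacts [Or.inl hc, Or.inr hq]
    · rcases h.cyclic_or_quaternion e S S.2 with hc | ⟨-, hq⟩
      exacts [Or.inl hc, Or.inr hq]
  obtain ⟨q, hq, K, hK, hK1, hKp⟩ := exists_normal_pgroup_of_sylow_two S hS
  haveI := hq
  haveI := hK
  by_cases hqr : q = r
  · subst hqr
    have e := h'.eq_one_of_normalizes (not_dvd_card_of_isPGroup hKp hrs) hK1
      ((Subgroup.normalizer_eq_top K).symm ▸ Subgroup.mem_top g')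
      (IsPGroup.of_card (n := 1) (by rw [Nat.card_zpowers, hg', pow_one]))
    rw [e, orderOf_one] at hg'
    exact (Fact.out : s.Prime).ne_one hg'.symm
  · have e := h.eq_one_of_normalizes (not_dvd_card_of_isPGroup hKp hqr) hK1
      ((Subgroup.normalizer_eq_top K).symm ▸ Subgroup.mem_top g)
      (IsPGroup.of_card (n := 1) (by rw [Nat.card_zpowers, hg, pow_one]))
    rw [e, orderOf_one] at hg
    exact (Fact.out : r.Prime).ne_one hg.symm

/-- If `r` divides the order of a semiregular group then it has a nontrivial normal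
`r`-subgroup. -/
theorem Semi.exists_normal (h : Semi φ Z0 r) [Fact r.Prime] (hr : r ∣ Nat.card W) :
    ∃ U : Subgroup W, U.Normal ∧ U ≠ ⊥ ∧ IsPGroup r U := by
  obtain ⟨g, hg⟩ := exists_prime_orderOf_dvd_card' r hr
  have hg1 : g ≠ 1 := fun e => (Fact.out : r.Prime).ne_one (by rw [← hg, e, orderOf_one])
  have hgp : IsPGroup r (Subgroup.zpowers g) :=
    IsPGroup.of_card (n := 1) (by rw [Nat.card_zpowers, hg, pow_one])
  rcases eq_or_ne r 2 with rfl | hr2
  · rcases CfsgLib.CaminaHerzog.exists_inverted_or_mem_two_core hg with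
      ⟨N, hN, hN2, hgN⟩ | ⟨c, hc1, hodd, hinv⟩
    · exact ⟨N, hN, fun e => hg1 (Subgroup.mem_bot.mp (e ▸ hgN)), hN2⟩
    · exfalso
      refine hg1 (h.eq_one_of_normalizes (H := Subgroup.zpowers c) ?_
        (fun e => hc1 (Subgroup.mem_bot.mp (e ▸ Subgroup.mem_zpowers c))) ?_ hgp)
      · rw [Nat.card_zpowers]
        exact fun hd => (Nat.not_even_iff_odd.mpr hodd) (even_iff_two_dvd.mpr hd)
      · rw [Subgroup.mem_normalizer_iff_map_conj_eq, MonoidHom.map_zpowers]
        show Subgroup.zpowers (g * c * g⁻¹) = Subgroup.zpowers c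
        rw [hinv, Subgroup.zpowers_inv]
  · obtain ⟨S⟩ : Nonempty (Sylow 2 W) := inferInstance
    haveI : Nontrivial W := ⟨g, 1, hg1⟩
    have hS : IsCyclic S ∨ ∃ n : ℕ, Nonempty ((S : Subgroup W) ≃* QuaternionGroup (2 ^ n)) := by
      rcases h.cyclic_or_quaternion hr2.symm S S.2 with hc | ⟨-, hq⟩
      exacts [Or.inl hc, Or.inr hq]
    obtain ⟨q, hq, K, hK, hK1, hKp⟩ := exists_normal_pgroup_of_sylow_two S hS
    haveI := hq
    haveI := hK
    by_cases hqr : q = r
    · subst hqr; exact ⟨K, hK, hK1, hKp⟩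
    · exact absurd (h.eq_one_of_normalizes (not_dvd_card_of_isPGroup hKp hqr) hK1
        ((Subgroup.normalizer_eq_top K).symm ▸ Subgroup.mem_top g) hgp) hg1

end CfsgLib.ClassSizesThree
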