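import Mathlib
import Cfsg.Agent.Lib.ClassSizesThree.Action

/-!
Semiregular actions by conjugation of sections `N/K` on abelian `r`-subgroups.
-/

set_option autoImplicit false
set_option linter.unusedSectionVars false
set_option linter.style.haveILetI false

namespace CfsgLib.ClassSizesThree

variable {G : Type*} [Group G] [Finite G]

/-- `N/K` acts semiregularly on the abelian `r`-group `Q` outside the central subgroup `Z`. -/
structure ConjSemi (N K Q Z : Subgroup G) (r : ℕ) : Prop where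
  comm : IsMulCommutative Q
  isP : IsPGroup r Q
  le : K ≤ N
  normK : N ≤ Subgroup.normalizer (K : Set G)
  normQ : N ≤ Subgroup.normalizer (Q : Set G)
  centK : K ≤ Subgroup.centralizer (Q : Set G)
  centZ : Z ≤ Subgroup.center G
  fix : ∀ n ∈ N, ∀ v ∈ Q, v ∉ Z → n * v = v * n → n ∈ K
  ne : ¬ Q ≤ Z

variable {N K Q Z : Subgroup G} {r : ℕ}

theorem ConjSemi.normal (h : ConjSemi N K Q Z r) : (K.subgroupOf N).Normal :=
  Subgroup.normal_subgroupOf_of_le_normalizer h.normK

/-- The induced semiregular action. -/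
theorem ConjSemi.exists_semi (h : ConjSemi N K Q Z r) :
    haveI := h.normal
    letI : CommGroup Q := { (inferInstance : Group Q) with mul_comm := h.comm.is_comm.comm }
    ∃ φ : N ⧸ K.subgroupOf N →* MulAut Q, Semi φ (Z.subgroupOf Q) r ∧
      ∀ (n : N) (v : Q), (φ n v : G) = n * v * (n : G)⁻¹ := by
  haveI := h.normal
  letI : CommGroup Q := { (inferInstance : Group Q) with mul_comm := h.comm.is_comm.comm }
  set ψ : N →* MulAut Q := Q.normalizerMonoidHom.comp (Subgroup.inclusion h.normQ)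
  have hψ : ∀ (n : N) (v : Q), (ψ n v : G) = n * v * (n : G)⁻¹ := fun n v => rfl
  have hK : K.subgroupOf N ≤ ψ.ker := by
    intro k hk
    rw [MonoidHom.mem_ker]
    ext v
    rw [hψ, MulAut.one_apply, mul_inv_eq_iff_eq_mul]
    exact ((Subgroup.mem_centralizer_iff.mp (h.centK (Subgroup.mem_subgroupOf.mp hk))) v v.2).symm
  refine ⟨QuotientGroup.lift _ ψ hK, ⟨h.isP, ?_, ?_, ?_⟩, fun n v => by
    rw [QuotientGroup.lift_mk, hψ]⟩
  · intro w v hv
    obtain ⟨n, rfl⟩ := QuotientGroup.mk_surjective w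
    apply Subtype.ext
    rw [QuotientGroup.lift_mk, hψ, mul_inv_eq_iff_eq_mul]
    exact (Subgroup.mem_center_iff.mp (h.centZ (Subgroup.mem_subgroupOf.mp hv)) n)
  · intro w hw v hv
    obtain ⟨n, rfl⟩ := QuotientGroup.mk_surjective w
    by_contra hvZ
    refine hw ((QuotientGroup.eq_one_iff n).mpr (Subgroup.mem_subgroupOf.mpr
      (h.fix n n.2 v v.2 (fun e => hvZ (Subgroup.mem_subgroupOf.mpr e)) ?_)))
    have := congrArg Subtype.val hv
    rw [QuotientGroup.lift_mk, hψ, mul_inv_eq_iff_eq_mul] at this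
    exact this
  · intro e
    exact h.ne (Subgroup.subgroupOf_eq_top.mp e)

theorem card_quotient_subgroupOf (N K : Subgroup G) :
    Nat.card (N ⧸ K.subgroupOf N) = K.relIndex N :=
  (Subgroup.index_eq_card _).symm

/-- `N/K` cannot have order divisible by two of the acted-on primes. -/
theorem ConjSemi.false_of_two {Q' Z' : Subgroup G} {s : ℕ} [Fact r.Prime] [Fact s.Prime]
    (h : ConjSemi N K Q Z r) (h' : ConjSemi N K Q' Z' s) (hrs : r ≠ s)
    (hr : r ∣ K.relIndex N) (hs : s ∣ K.relIndex N) : False := by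
  haveI := h.normal
  letI : CommGroup Q := { (inferInstance : Group Q) with mul_comm := h.comm.is_comm.comm }
  letI : CommGroup Q' := { (inferInstance : Group Q') with mul_comm := h'.comm.is_comm.comm }
  obtain ⟨φ, hφ, -⟩ := h.exists_semi
  obtain ⟨φ', hφ', -⟩ := h'.exists_semi
  exact hφ.false_of_two hφ' hrs (card_quotient_subgroupOf N K ▸ hr)
    (card_quotient_subgroupOf N K ▸ hs)

/-- If `r` divides `[N : K]`, a subgroup `U` strictly above `K`, normal in `N`, has `r`-power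
index over `K`. -/
theorem ConjSemi.exists_normal [Fact r.Prime] (h : ConjSemi N K Q Z r) (hr : r ∣ K.relIndex N) :
    ∃ U : Subgroup G, K < U ∧ U ≤ N ∧ N ≤ Subgroup.normalizer (U : Set G) ∧
      ∀ u ∈ U, ∃ j : ℕ, u ^ r ^ j ∈ K := by
  haveI := h.normal
  letI : CommGroup Q := { (inferInstance : Group Q) with mul_comm := h.comm.is_comm.comm }
  obtain ⟨φ, hφ, -⟩ := h.exists_semi
  obtain ⟨U, hU, hU1, hUp⟩ := hφ.exists_normal (card_quotient_subgroupOf N K ▸ hr)
  set π := QuotientGroup.mk' (K.subgroupOf N)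
  haveI := hU
  refine ⟨(U.comap π).map N.subtype, lt_of_le_of_ne ?_ ?_, Subgroup.map_subtype_le _, ?_, ?_⟩
  · intro k hk
    refine ⟨⟨k, h.le hk⟩, ?_, rfl⟩
    rw [SetLike.mem_coe, Subgroup.mem_comap, show π ⟨k, h.le hk⟩ = 1 from
      (QuotientGroup.eq_one_iff _).mpr (Subgroup.mem_subgroupOf.mpr hk)]
    exact one_mem _
  · intro e
    refine hU1 (eq_bot_iff.mpr fun w hw => ?_)
    obtain ⟨n, rfl⟩ := QuotientGroup.mk_surjective w
    have : (n : G) ∈ (U.comap π).map N.subtype := ⟨n, hw, rfl⟩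
    rw [← e] at this
    rw [Subgroup.mem_bot]
    exact (QuotientGroup.eq_one_iff n).mpr (Subgroup.mem_subgroupOf.mpr this)
  · refine le_trans ?_ (Subgroup.le_normalizer_map N.subtype)
    rw [Subgroup.normalizer_eq_top (U.comap π), ← MonoidHom.range_eq_map, Subgroup.range_subtype]
  · rintro _ ⟨u, hu, rfl⟩
    obtain ⟨j, hj⟩ := hUp ⟨π u, hu⟩
    refine ⟨j, ?_⟩
    have h1 : π (u ^ r ^ j) = 1 := by
      rw [map_pow]
      simpa using congrArg Subtype.val hj
    simpa [Subgroup.mem_subgroupOf] using (QuotientGroup.eq_one_iff _).mp h1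

/-- An element of prime order modulo `K` normalising a subgroup of prime order `q ≠ r` modulo `K`
centralises it modulo `K`. -/
theorem ConjSemi.commutator_mem [Fact r.Prime] (h : ConjSemi N K Q Z r) {q m : ℕ} [Fact q.Prime]
    (hqr : q ≠ r) (hm : m.Prime) {x t : G} (hx : x ∈ N) (hxq : x ^ q ∈ K) (hx1 : x ∉ K)
    (ht : t ∈ N) (htm : t ^ m ∈ K) (ht1 : t ∉ K) {i : ℕ} (hn : (x ^ i)⁻¹ * (t * x * t⁻¹) ∈ K) :
    (x * t)⁻¹ * (t * x) ∈ K := by
  haveI := h.normal
  letI : CommGroup Q := { (inferInstance : Group Q) with mul_comm := h.comm.is_comm.comm }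
  obtain ⟨φ, hφ, -⟩ := h.exists_semi
  set π := QuotientGroup.mk' (K.subgroupOf N)
  have hmem : ∀ n : N, π n = 1 ↔ (n : G) ∈ K := fun n => by
    rw [← Subgroup.mem_subgroupOf]
    exact QuotientGroup.eq_one_iff n
  have hconj : π ⟨t, ht⟩ * π ⟨x, hx⟩ * (π ⟨t, ht⟩)⁻¹ = π ⟨x, hx⟩ ^ i := by
    rw [eq_comm, ← inv_mul_eq_one, ← map_pow, ← map_mul, ← map_inv, ← map_inv, ← map_mul,
      ← map_mul, hmem]
    simpa using hn
  have hc := hφ.commute_of_normalizes hqr hm (x := π ⟨x, hx⟩) (t := π ⟨t, ht⟩)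
    (by rw [← map_pow, hmem]; simpa using hxq) (by rw [Ne, hmem]; exact hx1)
    (by rw [← map_pow, hmem]; simpa using htm) (by rw [Ne, hmem]; exact ht1)
    (by rw [hconj]; exact Subgroup.pow_mem _ (Subgroup.mem_zpowers _) _)
  have h2 := hc.eq
  rw [eq_comm, ← inv_mul_eq_one, ← map_mul, ← map_mul, ← map_inv, ← map_mul, hmem] at h2
  simpa using h2

end CfsgLib.ClassSizesThree
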