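import Mathlib
import Cfsg.Agent.S0564
import Cfsg.Agent.S0581
import Cfsg.Agent.Lib.PSolvable.Core
import Cfsg.Agent.Lib.ClassSizesThree.Basic

/-!
Abelian complements for a prime `e`.
-/

set_option autoImplicit false
set_option linter.unusedSectionVars false
set_option linter.style.haveILetI false

namespace CfsgLib.ClassSizesThree

variable {G : Type*} [Group G] [Finite G]

theorem card_mul_relIndex {A B : Subgroup G} (h : A ≤ B) :
    Nat.card A * A.relIndex B = Nat.card B := by
  rw [← Subgroup.relIndex_bot_left, ← Subgroup.relIndex_bot_left,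
    Subgroup.relIndex_mul_relIndex _ _ _ bot_le h]

/-- `U ≤ H` is an abelian `e`-complement of `H`. -/
structure IsAbComplement (e : ℕ) (U H : Subgroup G) : Prop where
  le : U ≤ H
  comm : IsMulCommutative U
  coprime : ¬ e ∣ Nat.card U
  index : ∃ k, U.relIndex H = e ^ k

theorem IsAbComplement.coprime_index {e : ℕ} [he : Fact e.Prime] {U H : Subgroup G}
    (h : IsAbComplement e U H) : (Nat.card U).Coprime (U.relIndex H) := by
  obtain ⟨k, hk⟩ := h.index
  rw [hk]
  exact ((he.out.coprime_iff_not_dvd.mpr h.coprime).symm).pow_right k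

theorem IsAbComplement.vp_eq {e : ℕ} [he : Fact e.Prime] {U H : Subgroup G}
    (h : IsAbComplement e U H) {t : ℕ} (hte : t ≠ e) : vp t U = vp t H := by
  obtain ⟨k, hk⟩ := h.index
  rw [vp, vp, ← card_mul_relIndex h.le, hk,
    Nat.factorization_mul Nat.card_pos.ne' (pow_ne_zero _ he.out.ne_zero), Finsupp.add_apply,
    he.out.factorization_pow, Finsupp.single_apply, if_neg (Ne.symm hte), add_zero]

theorem isNilpotent_of_comm {U : Subgroup G} (h : IsMulCommutative U) : Group.IsNilpotent U := by
  letI : CommGroup U := { (inferInstance : Group U) with mul_comm := h.is_comm.comm }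
  exact CommGroup.isNilpotent

/-- A subgroup of order with primes among those of `U` is conjugate into `U` inside `H`. -/
theorem IsAbComplement.exists_conj {e : ℕ} [he : Fact e.Prime] {U H K : Subgroup G}
    (h : IsAbComplement e U H) (hK : K ≤ H)
    (hKe : ∀ p : ℕ, p.Prime → p ∣ Nat.card K → p ≠ e) :
    ∃ x ∈ H, ∀ k ∈ K, x⁻¹ * k * x ∈ U := by
  have hU : Group.IsNilpotent (U.subgroupOf H) := by
    haveI := isNilpotent_of_comm h.comm
    exact Group.nilpotent_of_mulEquiv (Subgroup.subgroupOfEquivOfLe h.le).symm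
  have hcard : Nat.card (U.subgroupOf H) = Nat.card U :=
    Nat.card_congr (Subgroup.subgroupOfEquivOfLe h.le).toEquiv
  have hKc : Nat.card (K.subgroupOf H) = Nat.card K :=
    Nat.card_congr (Subgroup.subgroupOfEquivOfLe hK).toEquiv
  obtain ⟨k, hk⟩ := h.index
  obtain ⟨x, hx⟩ := Cfsg.Agent.S0581.result (U.subgroupOf H) (K.subgroupOf H) hU
    (by rw [hcard]; exact h.coprime_index) (fun p hp hpK => by
      rw [hKc] at hpK
      rw [hcard]
      have hd : p ∣ Nat.card U * U.relIndex H := by
        rw [card_mul_relIndex h.le]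
        exact hpK.trans (Subgroup.card_dvd_of_le hK)
      rcases hp.dvd_mul.mp hd with hd' | hd'
      · exact hd'
      · rw [hk] at hd'
        exact absurd ((Nat.prime_dvd_prime_iff_eq hp he.out).mp (hp.dvd_of_dvd_pow hd'))
          (hKe p hp hpK))
  refine ⟨x, x.2, fun k hk => ?_⟩
  have hk' := hx (show (⟨k, hK hk⟩ : H) ∈ K.subgroupOf H from Subgroup.mem_subgroupOf.mpr hk)
  rw [Subgroup.mem_pointwise_smul_iff_inv_smul_mem] at hk'
  simpa [Subgroup.mem_subgroupOf, MulAut.conj_symm_apply] using hk'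

/-- Product of a nilpotent `e`-complement and a Sylow subgroup. -/
theorem IsAbComplement.isSolvable {e : ℕ} [he : Fact e.Prime] {U H : Subgroup G}
    (h : IsAbComplement e U H) : Group.IsSolvable H := by
  obtain ⟨S⟩ : Nonempty (Sylow e H) := inferInstance
  obtain ⟨k, hk⟩ := h.index
  have hU : Group.IsNilpotent (U.subgroupOf H) := by
    haveI := isNilpotent_of_comm h.comm
    exact Group.nilpotent_of_mulEquiv (Subgroup.subgroupOfEquivOfLe h.le).symm
  have hcard : Nat.card (U.subgroupOf H) = Nat.card U :=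
    Nat.card_congr (Subgroup.subgroupOfEquivOfLe h.le).toEquiv
  have hS : Nat.card (S : Subgroup H) = U.relIndex H := by
    rw [S.card_eq_multiplicity, hk, ← card_mul_relIndex h.le, hk,
      Nat.factorization_mul Nat.card_pos.ne' (pow_ne_zero _ he.out.ne_zero), Finsupp.add_apply,
      he.out.factorization_pow, Finsupp.single_eq_same,
      Nat.factorization_eq_zero_of_not_dvd h.coprime, zero_add]
  have hc : Subgroup.IsComplement' (U.subgroupOf H) (S : Subgroup H) :=
    Subgroup.isComplement'_of_coprime (by rw [hcard, hS, card_mul_relIndex h.le])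
      (by rw [hcard, hS]; exact h.coprime_index)
  refine Cfsg.Agent.S0564.result (U.subgroupOf H) (S : Subgroup H) hU S.2.isNilpotent fun g => ?_
  obtain ⟨⟨a, b⟩, hab, -⟩ := Subgroup.isComplement_iff_existsUnique.mp hc g
  exact ⟨a, a.2, b, b.2, hab.symm⟩

/-- An `e`-element normalising the abelian `e`-complement whose centralizer has the `e'`-order
of the complement centralises it. -/
theorem commute_of_complement {X : Type*} [Group X] [Finite X] {e : ℕ} [he : Fact e.Prime]
    {U : Subgroup X} (h : IsAbComplement e U ⊤) {y : X}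
    (hn : y ∈ Subgroup.normalizer (U : Set X))
    (hC : ∀ t : ℕ, t.Prime → t ≠ e → vp t (C y) = vp t U) : ∀ u ∈ U, Commute y u := by
  classical
  haveI : Group.IsSolvable X := by
    haveI := h.isSolvable
    exact Group.isSolvable_of_surjective (f := (Subgroup.topEquiv : _ ≃* X).toMonoidHom)
      (Subgroup.topEquiv : _ ≃* X).surjective
  set F := Cfsg.pCore e X with hF
  haveI hFn : F.Normal := CfsgLib.Fitting.pCore_normal e
  have hFp : IsPGroup e F := CfsgLib.Fitting.pCore_isPGroup e
  set π := QuotientGroup.mk' F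
  have hπ : Function.Surjective π := QuotientGroup.mk'_surjective F
  set Ub := U.map π
  have hdvd : Nat.card Ub ∣ Nat.card U := by
    exact Subgroup.card_map_dvd U π
  have hUb : IsAbComplement e Ub ⊤ := by
    refine ⟨le_top, ⟨⟨?_⟩⟩, fun hd => h.coprime (hd.trans hdvd), ?_⟩
    · rintro ⟨_, a, ha, rfl⟩ ⟨_, b, hb, rfl⟩
      apply Subtype.ext
      show π a * π b = π b * π a
      rw [← map_mul, ← map_mul]
      exact congrArg π (congrArg Subtype.val (h.comm.is_comm.comm ⟨a, ha⟩ ⟨b, hb⟩))
    · obtain ⟨k, hk⟩ := h.index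
      rw [Subgroup.relIndex_top_right] at hk ⊢
      obtain ⟨i, -, hi⟩ := (Nat.dvd_prime_pow he.out).mp
        (hk ▸ Subgroup.index_map_dvd U hπ)
      exact ⟨i, hi⟩
  -- the Fitting subgroup of the quotient lies in the image of `U`
  set Φ := Cfsg.fittingSubgroup (X ⧸ F)
  haveI : Φ.Normal := CfsgLib.Fitting.fittingSubgroup_normal
  haveI : Group.IsNilpotent Φ := CfsgLib.Fitting.fittingSubgroup_isNilpotent
  have hΦe : ¬ e ∣ Nat.card Φ := by
    intro hd
    obtain ⟨S⟩ : Nonempty (Sylow e Φ) := inferInstance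
    haveI : (S : Subgroup Φ).Normal := inferInstance
    haveI := S.characteristic_of_normal inferInstance
    haveI hSn : ((S : Subgroup Φ).map Φ.subtype).Normal :=
      ConjAct.normal_of_characteristic_of_normal
    set S' := (S : Subgroup Φ).map Φ.subtype
    have hS'p : IsPGroup e S' := S.2.map _
    have hcp : IsPGroup e (S'.comap π) :=
      hS'p.comap_of_ker_isPGroup π (by rw [QuotientGroup.ker_mk']; exact hFp)
    have hle := CfsgLib.Fitting.le_pCore (hSn.comap π) hcp
    have hb : S' = ⊥ := by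
      refine eq_bot_iff.mpr fun w hw => ?_
      obtain ⟨x, rfl⟩ := hπ w
      rw [Subgroup.mem_bot]
      exact (QuotientGroup.eq_one_iff x).mpr (hle hw)
    exact S.ne_bot_of_dvd_card hd
      ((Subgroup.map_eq_bot_iff_of_injective _ Φ.subtype_injective).mp hb)
  have hΦU : Φ ≤ Ub := by
    obtain ⟨x, -, hx⟩ := hUb.exists_conj (K := Φ) le_top fun p _ hpd e' => hΦe (e' ▸ hpd)
    intro k hk
    have := hx (x * k * x⁻¹) (‹Φ.Normal›.conj_mem k hk x)
    simpa [mul_assoc] using this
  have hUΦ : Ub ≤ Φ := fun u hu => CfsgLib.PSolvable.centralizer_fittingSubgroup_le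
    (Subgroup.mem_centralizer_iff.mpr fun k hk =>
      congrArg Subtype.val (hUb.comm.is_comm.comm ⟨k, hΦU hk⟩ ⟨u, hu⟩))
  haveI : Ub.Normal := by rw [← le_antisymm hΦU hUΦ]; infer_instance
  -- the image of the centralizer of `y` contains the image of `U`
  set Cb := (C y).map π
  have hvC : ∀ t : ℕ, t.Prime → t ≠ e → vp t Cb = vp t Ub := by
    intro t ht hte
    have key : ∀ H : Subgroup X, vp t (H.map π) = vp t H := by
      intro H
      have h1 := Subgroup.card_mul_index ((π.comp H.subtype).ker)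
      rw [Subgroup.index_ker, MonoidHom.range_comp, Subgroup.range_subtype] at h1
      have h3 : IsPGroup e ((π.comp H.subtype).ker) :=
        (show IsPGroup e (F.subgroupOf H) from hFp.comap_of_injective H.subtype
          H.subtype_injective).to_le
          (by intro a ha; rw [Subgroup.mem_subgroupOf]; exact (QuotientGroup.eq_one_iff _).mp ha)
      obtain ⟨k, hk⟩ := IsPGroup.iff_card.mp h3
      rw [vp, vp, ← h1, hk,
        Nat.factorization_mul (pow_ne_zero _ he.out.ne_zero) Nat.card_pos.ne',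
        Finsupp.add_apply, he.out.factorization_pow, Finsupp.single_apply,
        if_neg (Ne.symm hte), zero_add]
    rw [key, key, hC t ht hte]
  have hle : Ub ≤ Cb := by
    have heq : Cb ⊓ Ub = Ub := by
      refine Subgroup.eq_of_le_of_card_ge inf_le_right (Nat.le_of_dvd Nat.card_pos ?_)
      rw [← Nat.factorization_le_iff_dvd Nat.card_pos.ne' Nat.card_pos.ne']
      intro t
      by_cases ht : t.Prime
      swap
      · rw [Nat.factorization_eq_zero_of_not_prime _ ht]; exact Nat.zero_le _
      rcases eq_or_ne t e with rfl | hte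
      · rw [Nat.factorization_eq_zero_of_not_dvd hUb.coprime]; exact Nat.zero_le _
      have hmul : Nat.card (Cb ⊓ Ub : Subgroup (X ⧸ F)) * Ub.relIndex Cb = Nat.card Cb := by
        rw [← Subgroup.inf_relIndex_left, card_mul_relIndex inf_le_left]
      obtain ⟨k, hk⟩ := hUb.index
      rw [Subgroup.relIndex_top_right] at hk
      obtain ⟨i, -, hi⟩ := (Nat.dvd_prime_pow he.out).mp
        (hk ▸ Subgroup.relIndex_dvd_index_of_normal Ub Cb)
      have h2 := congrArg (fun n => n.factorization t) hmul
      simp only [hi, Nat.factorization_mul Nat.card_pos.ne' (pow_ne_zero _ he.out.ne_zero),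
        Finsupp.add_apply, he.out.factorization_pow, Finsupp.single_apply, if_neg (Ne.symm hte),
        add_zero] at h2
      rw [h2]
      exact (hvC t ht hte).ge
    exact heq.ge.trans inf_le_left
  intro u hu
  have h1 : y * u * y⁻¹ * u⁻¹ ∈ U :=
    U.mul_mem ((Subgroup.mem_normalizer_iff.mp hn u).mp hu) (U.inv_mem hu)
  have h2 : y * u * y⁻¹ * u⁻¹ ∈ F := by
    obtain ⟨c, hc, hcu⟩ := hle ⟨u, hu, rfl⟩
    rw [← QuotientGroup.eq_one_iff]
    show π (y * u * y⁻¹ * u⁻¹) = 1
    rw [map_mul, map_mul, map_mul, map_inv, map_inv, ← hcu, ← map_inv, ← map_inv, ← map_mul,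
      ← map_mul, ← map_mul, (mem_C.mp hc).symm.eq, mul_inv_cancel_right, mul_inv_cancel, map_one]
  have h3 : y * u * y⁻¹ * u⁻¹ = 1 := by
    obtain ⟨j, hj⟩ := IsPGroup.iff_orderOf.mp hFp ⟨_, h2⟩
    rw [Subgroup.orderOf_mk] at hj
    rw [← orderOf_eq_one_iff]
    refine Nat.eq_one_of_dvd_coprimes
      ((he.out.coprime_iff_not_dvd.mpr h.coprime).pow_left j) (hj ▸ dvd_rfl) ?_
    exact Subgroup.orderOf_dvd_natCard U h1
  exact mul_inv_eq_iff_eq_mul.mp (mul_inv_eq_one.mp h3)

/-- Conjugating an abelian complement back by an element of `H`. -/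
theorem IsAbComplement.exists_normalizing {e : ℕ} [he : Fact e.Prime] {U H : Subgroup G}
    (h : IsAbComplement e U H) {g : G} (hg : ∀ u ∈ U, g * u * g⁻¹ ∈ H) :
    ∃ l ∈ H, l⁻¹ * g ∈ Subgroup.normalizer (U : Set G) := by
  obtain ⟨x, hx, hxK⟩ := h.exists_conj (K := U.map (MulAut.conj g).toMonoidHom)
    (by rintro _ ⟨u, hu, rfl⟩; exact hg u hu)
    (fun p _ hpd e' => h.coprime (e' ▸ (by
      rwa [Subgroup.card_map_of_injective (MulAut.conj g).injective] at hpd)))
  refine ⟨x, hx, Subgroup.mem_normalizer_iff_map_conj_eq.mpr ?_⟩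
  refine Subgroup.eq_of_le_of_card_ge ?_
    (by rw [Subgroup.card_map_of_injective (MulAut.conj _).injective])
  rintro _ ⟨u, hu, rfl⟩
  have := hxK (g * u * g⁻¹) ⟨u, hu, rfl⟩
  show x⁻¹ * g * u * (x⁻¹ * g)⁻¹ ∈ U
  simpa [mul_assoc] using this

end CfsgLib.ClassSizesThree
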