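import Mathlib
import Cfsg.Agent.Lib.ClassSizesThree.Conj
import Cfsg.Agent.Lib.ClassSizesThree.Hall

/-!
Subgroups whose `s`-elements are central in them and have them as centralisers.
-/

set_option autoImplicit false
set_option linter.unusedSectionVars false
set_option linter.style.haveILetI false

namespace CfsgLib.ClassSizesThree

variable {X : Type*} [Group X] [Finite X]

/-- The `s`-elements of `B` are central in `B` and, outside `Z(X)`, have centraliser `B`; some
`s`-element of `B` is outside `Z(X)`. -/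
structure Part (B : Subgroup X) (s : ℕ) : Prop where
  cent : ∀ v ∈ B, IsPEl s v → ∀ w ∈ B, Commute v w
  cEq : ∀ v ∈ B, IsPEl s v → v ∉ Subgroup.center X → C v = B
  ex : ∃ v ∈ B, IsPEl s v ∧ v ∉ Subgroup.center X

variable {B : Subgroup X} {s : ℕ} [hs : Fact s.Prime]

/-- The subgroup of `s`-elements of `B`. -/
theorem Part.exists_part (h : Part B s) : ∃ Q : Subgroup X, Q ≤ B ∧ IsPGroup s Q ∧
    Nat.card Q = s ^ vp s B ∧ IsMulCommutative Q ∧ (∀ v ∈ B, IsPEl s v → v ∈ Q) ∧
      B ≤ Subgroup.centralizer (Q : Set X) ∧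
      Subgroup.normalizer (B : Set X) ≤ Subgroup.normalizer (Q : Set X) := by
  obtain ⟨Q, hQB, hQ, hQc⟩ := exists_sylow_of_le (p := s) B
  have hcomm : ∀ v ∈ Q, ∀ w ∈ B, Commute v w := fun v hv =>
    h.cent v (hQB hv) (isPEl_of_isPGroup hQ hv)
  have hmax : ∀ v ∈ B, IsPEl s v → v ∈ Q := by
    intro v hv hvs
    have hn : Subgroup.zpowers v ≤ Subgroup.normalizer (Q : Set X) := by
      refine (Subgroup.zpowers_le.mpr ?_).trans (Subgroup.centralizer_le_normalizer _)
      exact Subgroup.mem_centralizer_iff.mpr fun y hy => (hcomm y hy v hv).eq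
    have hle := card_le_of_isPGroup (IsPGroup.to_sup_of_normal_right' hvs.isPGroup hQ hn)
      (sup_le (Subgroup.zpowers_le.mpr hv) hQB)
    rw [← hQc] at hle
    exact (Subgroup.eq_of_le_of_card_ge le_sup_right hle).symm ▸
      Subgroup.mem_sup_left (Subgroup.mem_zpowers v)
  refine ⟨Q, hQB, hQ, hQc, ⟨⟨fun x y => Subtype.ext ?_⟩⟩, hmax, fun w hw =>
    Subgroup.mem_centralizer_iff.mpr fun q hq => (hcomm q hq w hw).eq, fun n hn => ?_⟩
  · simpa using (hcomm x x.2 y (hQB y.2)).eq
  · refine Subgroup.mem_normalizer_iff_map_conj_eq.mpr (Subgroup.eq_of_le_of_card_ge ?_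
      (by rw [Subgroup.card_map_of_injective (MulAut.conj n).injective]))
    rintro _ ⟨q, hq, rfl⟩
    exact hmax _ ((Subgroup.mem_normalizer_iff.mp hn q).mp (hQB hq))
      ((isPEl_of_isPGroup hQ hq).conj n)

/-- An `s`-element normalising `B` but outside it. -/
theorem Part.exists_normalizing (h : Part B s) (hlt : vp s B < (Nat.card X).factorization s) :
    ∃ g : X, IsPEl s g ∧ g ∈ Subgroup.normalizer (B : Set X) ∧ g ∉ B := by
  obtain ⟨Q, hQB, hQ, hQc, -, hmax, -, -⟩ := h.exists_part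
  obtain ⟨R, hR⟩ := hQ.exists_le_sylow
  have hlt' : Q.subgroupOf (R : Subgroup X) < ⊤ := by
    refine lt_top_iff_ne_top.mpr fun e0 => ?_
    have h1 : Nat.card (R : Subgroup X) = Nat.card Q := by
      rw [← le_antisymm hR (Subgroup.subgroupOf_eq_top.mp e0)]
    rw [hQc, R.card_eq_multiplicity] at h1
    exact hlt.ne (Nat.pow_right_injective hs.out.two_le h1).symm
  haveI : Group.IsNilpotent (R : Subgroup X) := R.2.isNilpotent
  obtain ⟨g, hg1, hg2⟩ := SetLike.exists_of_lt
    (Group.normalizerCondition_of_isNilpotent (G := (R : Subgroup X)) _ hlt')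
  have hgs : IsPEl s (g : X) := isPEl_of_isPGroup R.2 g.2
  refine ⟨g, hgs, ?_, fun hgB => hg2 (Subgroup.mem_subgroupOf.mpr (hmax _ hgB hgs))⟩
  obtain ⟨v, hvB, hvs, hvZ⟩ := h.ex
  have hvQ := hmax v hvB hvs
  have hgvQ : (g : X) * v * (g : X)⁻¹ ∈ Q := Subgroup.mem_subgroupOf.mp
    ((Subgroup.mem_normalizer_iff.mp hg1 ⟨v, hR hvQ⟩).mp (Subgroup.mem_subgroupOf.mpr hvQ))
  have h1 := h.cEq _ (hQB hgvQ) (hvs.conj _) fun hz => hvZ (mem_center_of_conj hz)
  rw [C_conj, h.cEq v hvB hvs hvZ] at h1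
  exact Subgroup.mem_normalizer_iff_map_conj_eq.mpr h1

theorem Part.dvd_relIndex (h : Part B s) (hlt : vp s B < (Nat.card X).factorization s) :
    s ∣ B.relIndex (Subgroup.normalizer (B : Set X)) := by
  obtain ⟨g, ⟨j, hj⟩, hgN, hgB⟩ := h.exists_normalizing hlt
  by_contra hnd
  haveI : (B.subgroupOf (Subgroup.normalizer (B : Set X))).Normal :=
    Subgroup.normal_subgroupOf_of_le_normalizer le_rfl
  have h1 := Subgroup.pow_index_mem (B.subgroupOf (Subgroup.normalizer (B : Set X))) ⟨g, hgN⟩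
  rw [Subgroup.mem_subgroupOf] at h1
  obtain ⟨i, hi⟩ := exists_pow_eq_self_of_coprime (x := g)
    (n := B.relIndex (Subgroup.normalizer (B : Set X)))
    (by rw [hj]; exact ((hs.out.coprime_iff_not_dvd.mpr hnd).symm).pow_right j)
  exact hgB (hi ▸ B.pow_mem h1 i)

theorem Part.exists_conjSemi (h : Part B s) : ∃ Q : Subgroup X,
    ConjSemi (Subgroup.normalizer (B : Set X)) B Q (Subgroup.center X) s := by
  obtain ⟨Q, hQB, hQ, hQc, hQcomm, hmax, hBQ, hNQ⟩ := h.exists_part
  obtain ⟨v, hvB, hvs, hvZ⟩ := h.ex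
  exact ⟨Q, hQcomm, hQ, Subgroup.le_normalizer, le_rfl, hNQ, hBQ, le_rfl,
    fun n _ w hw hwZ hnw =>
      h.cEq w (hQB hw) (isPEl_of_isPGroup hQ hw) hwZ ▸ mem_C.mpr hnw,
    fun hle => hvZ (hle (hmax v hvB hvs))⟩

/-- Two such primes, both below the full Sylow order, give a contradiction. -/
theorem false_of_parts {t : ℕ} [Fact t.Prime] (hne : s ≠ t) (h : Part B s) (h' : Part B t)
    (hlt : vp s B < (Nat.card X).factorization s) (hlt' : vp t B < (Nat.card X).factorization t) :
    False := by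
  obtain ⟨Q, hQ⟩ := h.exists_conjSemi
  obtain ⟨Q', hQ'⟩ := h'.exists_conjSemi
  exact hQ.false_of_two hQ' hne (h.dvd_relIndex hlt) (h'.dvd_relIndex hlt')

/-- An abelian subgroup containing full Sylow subgroups for all primes but one gives solvability. -/
theorem isSolvable_of_almost_full {M : Subgroup X} (hM : IsMulCommutative M)
    (hfull : ∀ t : ℕ, t.Prime → t ≠ s → vp t M = (Nat.card X).factorization t) :
    Group.IsSolvable X := by
  classical
  letI : CommGroup M := { (inferInstance : Group M) with mul_comm := hM.is_comm.comm }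
  set v := vp s M
  let f : M →* X := M.subtype.comp (powMonoidHom (s ^ v))
  have hU : IsAbComplement s f.range ⊤ := by
    have hle : f.range ≤ M := by
      rintro _ ⟨m, rfl⟩
      exact (powMonoidHom (s ^ v) m).2
    have hcop : ¬ s ∣ Nat.card f.range := by
      intro hd
      obtain ⟨⟨y, m, rfl⟩, hy⟩ := exists_prime_orderOf_dvd_card' s hd
      rw [← Subgroup.orderOf_coe] at hy
      change orderOf (f m) = s at hy
      have hm : (Nat.card M / s ^ v) * s ^ v = Nat.card M :=
        Nat.div_mul_cancel (Nat.ordProj_dvd _ _)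
      have h1 : orderOf (f m) ∣ Nat.card M / s ^ v := by
        refine orderOf_dvd_of_pow_eq_one ?_
        rw [← map_pow]
        show M.subtype ((m ^ (Nat.card M / s ^ v)) ^ s ^ v) = 1
        rw [← pow_mul, hm, pow_card_eq_one', map_one]
      rw [hy] at h1
      exact Nat.not_dvd_ordCompl hs.out Nat.card_pos.ne' h1
    have hmemt : ∀ w ∈ M, ∀ t : ℕ, t.Prime → t ≠ s → IsPEl t w → w ∈ f.range := by
      intro w hw t ht hts hwt
      obtain ⟨j, hj⟩ := hwt
      obtain ⟨i, hi⟩ := exists_pow_eq_self_of_coprime (x := w) (n := s ^ v)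
        (by rw [hj]; exact ((Nat.coprime_primes hs.out ht).mpr hts.symm).pow _ _)
      refine ⟨⟨w, hw⟩ ^ i, ?_⟩
      show ((((⟨w, hw⟩ : M) ^ i) ^ s ^ v : M) : X) = w
      simp only [SubgroupClass.coe_pow]
      rwa [← pow_mul, mul_comm, pow_mul]
    refine ⟨le_top, ⟨⟨?_⟩⟩, hcop, ?_⟩
    · rintro ⟨_, p, rfl⟩ ⟨_, q, rfl⟩
      exact Subtype.ext (by
        show f p * f q = f q * f p
        rw [← map_mul, ← map_mul, mul_comm])
    · rw [Subgroup.relIndex_top_right]
      refine ⟨_, Nat.eq_prime_pow_of_unique_prime_dvd Subgroup.index_ne_zero_of_finite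
        fun {t} ht htd => ?_⟩
      by_contra hts
      haveI := Fact.mk ht
      obtain ⟨T, hTM, hT, hTc⟩ := exists_sylow_of_le (p := t) M
      have hTU : T ≤ f.range := fun w hw =>
        hmemt w (hTM hw) t ht hts (isPEl_of_isPGroup hT hw)
      have h1 := card_le_of_isPGroup hT hTU
      rw [hTc] at h1
      have h2 := (Nat.pow_le_pow_iff_right ht.one_lt).mp h1
      rw [hfull t ht hts, vp, ← Subgroup.card_mul_index f.range,
        Nat.factorization_mul Nat.card_pos.ne' Subgroup.index_ne_zero_of_finite,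
        Finsupp.add_apply] at h2
      have := ht.factorization_pos_of_dvd Subgroup.index_ne_zero_of_finite htd
      omega
  haveI := hU.isSolvable
  exact Group.isSolvable_of_surjective (f := (Subgroup.topEquiv : _ ≃* X).toMonoidHom)
    (Subgroup.topEquiv : _ ≃* X).surjective

end CfsgLib.ClassSizesThree
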