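import Mathlib
import Cfsg.Agent.S4034
import Cfsg.Agent.S4035
import Cfsg.Agent.Lib.ClassSizesThree.Conj
import Cfsg.Agent.Lib.ClassSizesThree.Hall

/-!
Two centraliser orders agreeing away from one prime force solvability.
-/

set_option autoImplicit false
set_option linter.unusedSectionVars false
set_option linter.style.haveILetI false

namespace CfsgLib.ClassSizesThree

variable {G : Type*} [Group G] [Finite G] {a b : ℕ}

/-- The class of `u` in a subgroup `H`. -/
theorem ncard_carrier_mul {H : Subgroup G} (u : H) :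
    (ConjClasses.mk u).carrier.ncard * Nat.card (H ⊓ C (u : G) : Subgroup G) = Nat.card H := by
  classical
  haveI : Fintype H := Fintype.ofFinite H
  have h1 : (ConjClasses.mk u).carrier.ncard = (Subgroup.centralizer ({u} : Set H)).index :=
    Cfsg.Agent.S4035.index_centralizer_eq u
  have h2 : (Subgroup.centralizer ({u} : Set H)) = (H ⊓ C (u : G)).subgroupOf H := by
    ext w
    rw [Subgroup.mem_subgroupOf, Subgroup.mem_inf, mem_C, Subgroup.mem_centralizer_singleton_iff]
    exact ⟨fun e => ⟨w.2, congrArg Subtype.val e⟩, fun e => Subtype.ext e.2⟩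
  rw [h1, h2, mul_comm]
  exact card_mul_relIndex inf_le_left

/-- The subgroup of `t`-elements of a commutative subgroup. -/
theorem exists_tPart {U : Subgroup G} (hU : IsMulCommutative U) (t : ℕ) [Fact t.Prime] :
    ∃ Q : Subgroup G, Q ≤ U ∧ IsPGroup t Q ∧ Nat.card Q = t ^ vp t U ∧ IsMulCommutative Q ∧
      ∀ v ∈ U, IsPEl t v → v ∈ Q := by
  obtain ⟨Q, hQU, hQ, hQc⟩ := exists_sylow_of_le (p := t) U
  refine ⟨Q, hQU, hQ, hQc, ⟨⟨fun x y => Subtype.ext ?_⟩⟩, fun v hv hvt => ?_⟩
  · simpa using Subtype.ext_iff.mp (hU.is_comm.comm ⟨(x : G), hQU x.2⟩ ⟨(y : G), hQU y.2⟩)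
  · have hn : Subgroup.zpowers v ≤ Subgroup.normalizer (Q : Set G) := by
      refine (Subgroup.zpowers_le.mpr ?_).trans (Subgroup.centralizer_le_normalizer _)
      exact Subgroup.mem_centralizer_iff.mpr fun y hy =>
        congrArg Subtype.val (hU.is_comm.comm ⟨y, hQU hy⟩ ⟨v, hv⟩)
    have hle := card_le_of_isPGroup (IsPGroup.to_sup_of_normal_right' hvt.isPGroup hQ hn)
      (sup_le (Subgroup.zpowers_le.mpr hv) hQU)
    rw [← hQc] at hle
    exact (Subgroup.eq_of_le_of_card_ge le_sup_right hle).symm ▸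
      Subgroup.mem_sup_left (Subgroup.mem_zpowers v)

/-- A subgroup all of whose elements of prime power order lie in `K` lies in `K`. -/
theorem le_of_pEl {H K : Subgroup G}
    (h : ∀ p : ℕ, p.Prime → ∀ v ∈ H, IsPEl p v → v ∈ K) : H ≤ K := by
  rw [← Subgroup.relIndex_eq_one]
  by_contra hne
  obtain ⟨p, hp, hd⟩ := Nat.exists_prime_and_dvd hne
  haveI := Fact.mk hp
  obtain ⟨S⟩ : Nonempty (Sylow p H) := inferInstance
  refine S.not_dvd_index (hd.trans (Subgroup.index_dvd_of_le fun w hw => ?_))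
  exact Subgroup.mem_subgroupOf.mpr (h p hp w w.2
    (isPEl_of_isPGroup (S.2.map H.subtype) ⟨w, hw, rfl⟩))

theorem IsAbComplement.subset {e : ℕ} [he : Fact e.Prime] {U H H' : Subgroup G}
    (h : IsAbComplement e U H) (hUH : U ≤ H') (hH : H' ≤ H) : IsAbComplement e U H' := by
  refine ⟨hUH, h.comm, h.coprime, ?_⟩
  obtain ⟨k, hk⟩ := h.index
  obtain ⟨i, -, hi⟩ := (Nat.dvd_prime_pow he.out).mp
    (hk ▸ Dvd.intro _ (Subgroup.relIndex_mul_relIndex U H' H hUH hH))
  exact ⟨i, hi⟩

/-- The case of centraliser orders agreeing away from `e`. -/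
theorem Sizes.false_of_primePow (h : Sizes G a b) (hns : ¬ Group.IsSolvable G) {e : ℕ}
    [he : Fact e.Prime] (heZ : e ∣ (Subgroup.center G).index)
    (hab : ∀ t : ℕ, t.Prime → t ≠ e → a.factorization t = b.factorization t) : False := by
  classical
  have hvt : ∀ g : G, g ∉ Subgroup.center G → ∀ t : ℕ, t.Prime → t ≠ e →
      vp t (C g) = b.factorization t := by
    intro g hg t ht hte
    rcases h.size g hg with e1 | e1
    · rw [vp, e1, hab t ht hte]
    · rw [vp, e1]
  -- the abelian complement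
  obtain ⟨x, hxe, hxZ⟩ := exists_pEl_notMem (p := e) heZ
  obtain ⟨U₀, hU₀c, hU₀e, k₀, hk₀⟩ := (Cfsg.Agent.S4034.result (G := C x) he.out).mp fun u hu => by
    have hu' : (orderOf x).Coprime (orderOf (u : G)) := by
      obtain ⟨j, hj⟩ := hxe
      rw [hj, Subgroup.orderOf_coe]
      exact (hu.symm).pow_left j
    have hmul := ncard_carrier_mul (H := C x) u
    have hn0 : (ConjClasses.mk u).carrier.ncard ≠ 0 := fun e0 => by
      rw [e0, zero_mul] at hmul
      exact Nat.card_pos.ne' hmul.symm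
    have huni : ∀ {d : ℕ}, d.Prime → d ∣ (ConjClasses.mk u).carrier.ncard → d = e := by
      intro d hd hdd
      by_contra hde
      have hf := congrArg (fun n => n.factorization d) hmul
      simp only [Nat.factorization_mul hn0 Nat.card_pos.ne', Finsupp.add_apply] at hf
      have e2 : (Nat.card (C x ⊓ C (u : G) : Subgroup G)).factorization d
          = (Nat.card (C x)).factorization d := by
        rcases h.inf_size hxZ (mem_C.mp u.2).symm hu' with e3 | e3 <;>
          rcases h.size x hxZ with e4 | e4 <;> rw [e3, e4]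
        · exact hab d hd hde
        · exact (hab d hd hde).symm
      have := hd.factorization_pos_of_dvd hn0 hdd
      omega
    exact ⟨_, Nat.eq_prime_pow_of_unique_prime_dvd hn0 huni⟩
  set U := U₀.map (C x).subtype
  have hUx : IsAbComplement e U (C x) := by
    refine ⟨Subgroup.map_subtype_le _, ⟨⟨?_⟩⟩, ?_, ⟨k₀, ?_⟩⟩
    · rintro ⟨_, p, hp, rfl⟩ ⟨_, q, hq, rfl⟩
      exact Subtype.ext (congrArg ((C x).subtype) (congrArg Subtype.val
        (hU₀c.is_comm.comm ⟨p, hp⟩ ⟨q, hq⟩)))
    · rwa [Subgroup.card_map_of_injective (C x).subtype_injective]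
    · show (U.subgroupOf (C x)).index = _
      rw [show U.subgroupOf (C x) = U₀ from
        Subgroup.comap_map_eq_self_of_injective (C x).subtype_injective _, hk₀]
  have hvU : ∀ t : ℕ, t.Prime → t ≠ e → vp t U = b.factorization t := fun t ht hte => by
    rw [hUx.vp_eq hte, hvt x hxZ t ht hte]
  have hUw : ∀ w ∈ U, w ∉ Subgroup.center G → IsAbComplement e U (C w) := by
    intro w hw hwZ
    have hle : U ≤ C w := fun u hu => mem_C.mpr
      (congrArg Subtype.val (hUx.comm.is_comm.comm ⟨u, hu⟩ ⟨w, hw⟩))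
    refine ⟨hle, hUx.comm, hUx.coprime, ?_⟩
    have hmul := card_mul_relIndex hle
    have hn0 : U.relIndex (C w) ≠ 0 := fun e0 => by
      rw [e0, mul_zero] at hmul
      exact Nat.card_pos.ne' hmul.symm
    refine ⟨_, Nat.eq_prime_pow_of_unique_prime_dvd hn0 fun {d} hd hdd => ?_⟩
    by_contra hde
    have hf := congrArg (fun n => n.factorization d) hmul
    simp only [Nat.factorization_mul Nat.card_pos.ne' hn0, Finsupp.add_apply] at hf
    have e1 := hvU d hd hde
    have e2 := hvt w hwZ d hd hde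
    rw [vp] at e1 e2
    have := hd.factorization_pos_of_dvd hn0 hdd
    omega
  set N := Subgroup.normalizer (U : Set G)
  set K := Subgroup.centralizer (U : Set G)
  have hKN : K ≤ N := Subgroup.centralizer_le_normalizer _
  have hNK : N ≤ Subgroup.normalizer (K : Set G) := by
    intro n hn
    rw [Subgroup.mem_normalizer_iff]
    intro k
    have key : ∀ n : G, n ∈ N → ∀ k ∈ K, n * k * n⁻¹ ∈ K := fun n hn k hk =>
      Subgroup.mem_centralizer_iff.mpr fun u hu => by
        have hu' : n⁻¹ * u * n⁻¹⁻¹ ∈ U :=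
          (Subgroup.mem_normalizer_iff.mp (inv_mem hn) u).mp hu
        have e1 := Subgroup.mem_centralizer_iff.mp hk _ hu'
        calc u * (n * k * n⁻¹) = n * (n⁻¹ * u * n⁻¹⁻¹ * k) * n⁻¹ := by group
          _ = n * (k * (n⁻¹ * u * n⁻¹⁻¹)) * n⁻¹ := by rw [e1]
          _ = n * k * n⁻¹ * u := by group
    refine ⟨key n hn k, fun hk => ?_⟩
    have := key n⁻¹ (inv_mem hn) _ hk
    simpa [mul_assoc] using this
  -- semiregularity
  have hfix : ∀ n ∈ N, ∀ w ∈ U, w ∉ Subgroup.center G → n * w = w * n → n ∈ K := by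
    intro n hn w hw hwZ hnw
    suffices hle : N ⊓ C w ≤ K from hle ⟨hn, mem_C.mpr hnw⟩
    refine le_of_pEl fun p hp v ⟨hvN, hvw⟩ hvp => ?_
    haveI := Fact.mk hp
    by_cases hpe : p = e
    · subst hpe
      obtain ⟨t, ht, y, hy, hyt, hyZ⟩ := exists_primePart hwZ
      haveI := ht
      have hyU : y ∈ U := (Subgroup.zpowers_le.mpr hw) hy
      have hte : t ≠ p := by
        intro e'
        subst e'
        obtain ⟨j, hj⟩ := hyt
        refine hUx.coprime (dvd_trans ?_ (Subgroup.orderOf_dvd_natCard U hyU))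
        rw [hj]
        refine dvd_pow_self t fun e0 => hyZ ?_
        rw [e0, pow_zero, orderOf_eq_one_iff] at hj
        exact hj ▸ one_mem _
      have hH := hUw y hyU hyZ
      have hvy : v ∈ C y := C_le_of_mem_zpowers hy hvw
      rw [Subgroup.mem_centralizer_iff]
      by_cases hvZ : v ∈ Subgroup.center G
      · exact fun u _ => Subgroup.mem_center_iff.mp hvZ u
      have hUt : IsAbComplement p (U.subgroupOf (C y)) ⊤ := by
        refine ⟨le_top, ⟨⟨fun s s' => Subtype.ext (Subtype.ext ?_)⟩⟩, ?_, ?_⟩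
        · simpa using Subtype.ext_iff.mp
            (hUx.comm.is_comm.comm ⟨((s : C y) : G), s.2⟩ ⟨((s' : C y) : G), s'.2⟩)
        · rw [Nat.card_congr (Subgroup.subgroupOfEquivOfLe hH.le).toEquiv]
          exact hH.coprime
        · rw [Subgroup.relIndex_top_right]
          exact hH.index
      have hnorm : (⟨v, hvy⟩ : C y) ∈ Subgroup.normalizer ((U.subgroupOf (C y)) : Set (C y)) := by
        rw [Subgroup.mem_normalizer_iff]
        intro s
        simp only [Subgroup.mem_subgroupOf, Subgroup.coe_mul, InvMemClass.coe_inv]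
        exact Subgroup.mem_normalizer_iff.mp hvN s
      have hC := commute_of_complement hUt hnorm fun q hq hqe => by
        have hcmap : (C (⟨v, hvy⟩ : C y)).map (C y).subtype = C y ⊓ C v := by
          ext z
          constructor
          · rintro ⟨z, hz, rfl⟩
            exact ⟨z.2, mem_C.mpr (congrArg Subtype.val (mem_C.mp hz).eq)⟩
          · rintro ⟨hz1, hz2⟩
            exact ⟨⟨z, hz1⟩, mem_C.mpr (Subtype.ext (mem_C.mp hz2).eq), rfl⟩
        have h1 : vp q (C (⟨v, hvy⟩ : C y)) = vp q (C y ⊓ C v) := by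
          rw [vp, vp, ← hcmap, Subgroup.card_map_of_injective (C y).subtype_injective]
        have h2 : vp q (U.subgroupOf (C y)) = vp q U := by
          rw [vp, vp, Nat.card_congr (Subgroup.subgroupOfEquivOfLe hH.le).toEquiv]
        rw [h1, h2, hvU q hq hqe, vp]
        rcases h.inf_size hyZ (mem_C.mp hvy).symm (hyt.coprime hte hvp) with e3 | e3 <;> rw [e3]
        exact hab q hq hqe
      intro u hu
      have := hC ⟨u, hH.le hu⟩ (Subgroup.mem_subgroupOf.mpr hu)
      exact (congrArg Subtype.val this.eq).symm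
    · obtain ⟨Q, hQU, hQ, hQc, -, hQmax⟩ := exists_tPart hUx.comm p
      have hvQ : Subgroup.zpowers v ≤ Subgroup.normalizer (Q : Set G) := by
        rw [Subgroup.zpowers_le, Subgroup.mem_normalizer_iff_map_conj_eq]
        refine Subgroup.eq_of_le_of_card_ge ?_
          (by rw [Subgroup.card_map_of_injective (MulAut.conj v).injective])
        rintro _ ⟨q, hq, rfl⟩
        exact hQmax _ ((Subgroup.mem_normalizer_iff.mp hvN q).mp (hQU hq))
          ((isPEl_of_isPGroup hQ hq).conj v)
      have hle := card_le_of_isPGroup (IsPGroup.to_sup_of_normal_right' hvp.isPGroup hQ hvQ)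
        (sup_le (Subgroup.zpowers_le.mpr hvw) (hQU.trans (hUw w hw hwZ).le))
      rw [hvt w hwZ p hp hpe, ← hvU p hp hpe, ← hQc] at hle
      have hvQ' : v ∈ Q := (Subgroup.eq_of_le_of_card_ge le_sup_right hle).symm ▸
        Subgroup.mem_sup_left (Subgroup.mem_zpowers v)
      exact Subgroup.mem_centralizer_iff.mpr fun u hu =>
        congrArg Subtype.val (hUx.comm.is_comm.comm ⟨u, hu⟩ ⟨v, hQU hvQ'⟩)
  -- two primes other than `e`
  have hT : ∀ t : ℕ, (ht : t.Prime) → t ≠ e → t ∣ (Subgroup.center G).index →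
      ∃ Q : Subgroup G, ConjSemi N K Q (Subgroup.center G) t ∧ t ∣ K.relIndex N := by
    intro t ht hte hti
    haveI := Fact.mk ht
    obtain ⟨Q, hQU, hQ, hQc, hQcomm, hQmax⟩ := exists_tPart hUx.comm t
    obtain ⟨v, hvt', hvZ⟩ := exists_pEl_notMem (p := t) hti
    obtain ⟨g₀, hg₀, hlt⟩ := exists_vp_lt (p := t) hti
    have hQne : ¬ Q ≤ Subgroup.center G := by
      intro hle
      have h1 := card_le_of_isPGroup hQ hle
      rw [hQc, hvU t ht hte, ← hvt v hvZ t ht hte] at h1
      have h2 := (Nat.pow_le_pow_iff_right ht.one_lt).mp h1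
      exact absurd (vp_center_lt (center_le_C v) (self_mem_C v) hvt' hvZ) (not_lt.mpr h2)
    have hQn : N ≤ Subgroup.normalizer (Q : Set G) := by
      intro n hn
      refine Subgroup.mem_normalizer_iff_map_conj_eq.mpr (Subgroup.eq_of_le_of_card_ge ?_
          (by rw [Subgroup.card_map_of_injective (MulAut.conj n).injective]))
      rintro _ ⟨q, hq, rfl⟩
      exact hQmax _ ((Subgroup.mem_normalizer_iff.mp hn q).mp (hQU hq))
        ((isPEl_of_isPGroup hQ hq).conj n)
    refine ⟨Q, ⟨hQcomm, hQ, hKN, hNK, hQn,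
      Subgroup.centralizer_le (fun q hq => hQU hq), le_rfl,
      fun n hn w hw hwZ hnw => hfix n hn w (hQU hw) hwZ hnw, hQne⟩, ?_⟩
    -- a `t`-element moving `Q`
    by_contra hnd
    obtain ⟨R, hR⟩ := hQ.exists_le_sylow
    have hlt' : Q.subgroupOf (R : Subgroup G) < ⊤ := by
      refine lt_top_iff_ne_top.mpr fun e0 => ?_
      have h1 : Nat.card (R : Subgroup G) = Nat.card Q := by
        rw [← le_antisymm hR (Subgroup.subgroupOf_eq_top.mp e0)]
      rw [hQc, R.card_eq_multiplicity] at h1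
      have h2 := Nat.pow_right_injective ht.two_le h1
      rw [hvt g₀ hg₀ t ht hte, ← hvU t ht hte] at hlt
      omega
    haveI : Group.IsNilpotent (R : Subgroup G) := R.2.isNilpotent
    obtain ⟨g, hg1, hg2⟩ := SetLike.exists_of_lt
      (Group.normalizerCondition_of_isNilpotent (G := (R : Subgroup G)) _ hlt')
    have hgQ : (g : G) ∈ Subgroup.normalizer (Q : Set G) := by
      rw [Subgroup.mem_normalizer_iff_map_conj_eq]
      refine Subgroup.eq_of_le_of_card_ge ?_
        (by rw [Subgroup.card_map_of_injective (MulAut.conj (g : G)).injective])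
      rintro _ ⟨q, hq, rfl⟩
      exact Subgroup.mem_subgroupOf.mp ((Subgroup.mem_normalizer_iff.mp hg1
        ⟨q, hR hq⟩).mp (Subgroup.mem_subgroupOf.mpr hq))
    set L := Subgroup.centralizer (Q : Set G)
    obtain ⟨w, hw, hwZ⟩ := SetLike.not_le_iff_exists.mp hQne
    have hLw : L ≤ C w := fun l hl =>
      mem_C.mpr (Subgroup.mem_centralizer_iff.mp hl w hw).symm
    have hUL : U ≤ L := fun u hu => Subgroup.mem_centralizer_iff.mpr fun q hq =>
      congrArg Subtype.val (hUx.comm.is_comm.comm ⟨q, hQU hq⟩ ⟨u, hu⟩)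
    have hgL : (g : G) ∉ L := by
      intro hgL
      have hgt : IsPEl t (g : G) := isPEl_of_isPGroup R.2 g.2
      have hle := card_le_of_isPGroup (IsPGroup.to_sup_of_normal_right' hgt.isPGroup hQ
        (Subgroup.zpowers_le.mpr hgQ)) (sup_le (Subgroup.zpowers_le.mpr (hLw hgL))
          (hQU.trans (hUw w (hQU hw) hwZ).le))
      rw [hvt w hwZ t ht hte, ← hvU t ht hte, ← hQc] at hle
      exact hg2 (Subgroup.mem_subgroupOf.mpr ((Subgroup.eq_of_le_of_card_ge le_sup_right hle).symm ▸
        Subgroup.mem_sup_left (Subgroup.mem_zpowers _)))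
    have hLn : ∀ l ∈ L, (g : G) * l * (g : G)⁻¹ ∈ L := by
      intro l hl
      refine Subgroup.mem_centralizer_iff.mpr fun q hq => ?_
      have hq' : (g : G)⁻¹ * q * (g : G)⁻¹⁻¹ ∈ Q :=
        (Subgroup.mem_normalizer_iff.mp (inv_mem hgQ) q).mp hq
      have e1 := Subgroup.mem_centralizer_iff.mp hl _ hq'
      calc q * ((g : G) * l * (g : G)⁻¹)
          = g * ((g : G)⁻¹ * q * (g : G)⁻¹⁻¹ * l) * (g : G)⁻¹ := by group
        _ = g * (l * ((g : G)⁻¹ * q * (g : G)⁻¹⁻¹)) * (g : G)⁻¹ := by rw [e1]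
        _ = g * l * (g : G)⁻¹ * q := by group
    obtain ⟨l, hl, hn⟩ := ((hUw w (hQU hw) hwZ).subset hUL hLw).exists_normalizing
      (g := (g : G)) (fun u hu => hLn u (hUL hu))
    set m := K.relIndex N
    have hnm : (l⁻¹ * (g : G)) ^ m ∈ L := by
      haveI : (K.subgroupOf N).Normal := Subgroup.normal_subgroupOf_of_le_normalizer hNK
      have h1 : (⟨_, hn⟩ : N) ^ m ∈ K.subgroupOf N := Subgroup.pow_index_mem _ _
      rw [Subgroup.mem_subgroupOf] at h1
      exact Subgroup.centralizer_le (fun q hq => hQU hq) h1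
    have hpow : ∀ j : ℕ, ∃ l' ∈ L, (l⁻¹ * (g : G)) ^ j = l' * (g : G) ^ j := by
      intro j
      induction j with
      | zero => exact ⟨1, one_mem _, by simp⟩
      | succ j ih =>
        obtain ⟨l', hl', e1⟩ := ih
        have key : ∀ i : ℕ, ∀ l ∈ L, (g : G) ^ i * l * ((g : G) ^ i)⁻¹ ∈ L := by
          intro i
          induction i with
          | zero => intro l hl; simpa using hl
          | succ i ih2 =>
            intro l hl
            have := hLn _ (ih2 l hl)
            rw [pow_succ', mul_inv_rev]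
            simpa [mul_assoc] using this
        exact ⟨l' * ((g : G) ^ j * l⁻¹ * ((g : G) ^ j)⁻¹),
          L.mul_mem hl' (key j _ (inv_mem hl)), by rw [pow_succ, e1, pow_succ]; group⟩
    obtain ⟨l', hl', e1⟩ := hpow m
    have hgm : (g : G) ^ m ∈ L := by
      have : (g : G) ^ m = l'⁻¹ * (l⁻¹ * (g : G)) ^ m := by rw [e1, inv_mul_cancel_left]
      rw [this]
      exact L.mul_mem (inv_mem hl') hnm
    obtain ⟨j, hj⟩ := isPEl_of_isPGroup R.2 g.2
    obtain ⟨i, hi⟩ := exists_pow_eq_self_of_coprime (x := (g : G)) (n := m)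
      (by rw [hj]; exact ((ht.coprime_iff_not_dvd.mpr hnd).symm).pow_right j)
    exact hgL (hi ▸ L.pow_mem hgm i)
  obtain ⟨t₁, ht₁, ht₁i, ht₁e, -⟩ := exists_third_prime hns he.out he.out
  obtain ⟨t₂, ht₂, ht₂i, ht₂e, ht₂1⟩ := exists_third_prime hns he.out ht₁
  haveI := Fact.mk ht₁
  haveI := Fact.mk ht₂
  obtain ⟨Q₁, hQ₁, hd₁⟩ := hT t₁ ht₁ ht₁e ht₁i
  obtain ⟨Q₂, hQ₂, hd₂⟩ := hT t₂ ht₂ ht₂e ht₂i
  exact hQ₁.false_of_two hQ₂ ht₂1.symm hd₁ hd₂

end CfsgLib.ClassSizesThree
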