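import Mathlib
import Cfsg.Agent.Lib.ClassSizesThree.Grow
import Cfsg.Agent.Lib.ClassSizesThree.PrimePower

/-!
Three class sizes, one dividing the other: solvability.
-/

set_option autoImplicit false
set_option linter.unusedSectionVars false
set_option linter.style.haveILetI false

namespace CfsgLib.ClassSizesThree

variable {G : Type*} [Group G] [Finite G] {a b : ℕ}

theorem exists_pEl_notMem_of_vp_lt {t : ℕ} [ht : Fact t.Prime] {H K : Subgroup G}
    (h : vp t K < vp t H) : ∃ v ∈ H, IsPEl t v ∧ v ∉ K := by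
  obtain ⟨Q, hQH, hQ, hQc⟩ := exists_sylow_of_le (p := t) H
  by_contra hcon
  push Not at hcon
  have hle := card_le_of_isPGroup hQ fun v hv => hcon v (hQH hv) (isPEl_of_isPGroup hQ hv)
  rw [hQc] at hle
  exact absurd ((Nat.pow_le_pow_iff_right ht.out.one_lt).mp hle) (not_le.mpr h)

/-- A subgroup whose prime power order elements are central in it is commutative. -/
theorem isMulCommutative_of_pEl {M : Subgroup G}
    (h : ∀ t : ℕ, t.Prime → ∀ v ∈ M, IsPEl t v → M ≤ C v) : IsMulCommutative M := by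
  have hle : M ≤ Subgroup.centralizer (M : Set G) := le_of_pEl fun t ht v hv hvt =>
    Subgroup.mem_centralizer_iff.mpr fun w hw => (mem_C.mp (h t ht v hv hvt hw)).eq
  exact ⟨⟨fun x y => Subtype.ext (by
    simpa using (Subgroup.mem_centralizer_iff.mp (hle x.2) y y.2).symm)⟩⟩

theorem le_C_of_comm {M : Subgroup G} (hM : IsMulCommutative M) {v : G} (hv : v ∈ M) :
    M ≤ C v := fun w hw => mem_C.mpr (congrArg Subtype.val (hM.is_comm.comm ⟨w, hw⟩ ⟨v, hv⟩))

theorem Sizes.C_eq_of_le (h : Sizes G a b) {M : Subgroup G} {v : G}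
    (hM : Nat.card M = a) (hv : v ∉ Subgroup.center G) (hle : M ≤ C v) : C v = M := by
  refine (Subgroup.eq_of_le_of_card_ge hle ?_).symm
  rcases h.size v hv with e | e <;> rw [e, hM]
  exact h.lt.le

/-- A non-central coprime element of a largest centraliser has a smallest centraliser in it. -/
theorem Sizes.card_inf (h : Sizes G a b) {x v : G} (hx : x ∉ Subgroup.center G)
    (hxa : Nat.card (C x) = a) (hv : v ∈ C x) (ho : (orderOf x).Coprime (orderOf v))
    (hnc : ¬ C x ≤ C v) : Nat.card (C x ⊓ C v : Subgroup G) = b := by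
  rcases h.inf_size hx (mem_C.mp hv).symm ho with e | e
  · exact absurd ((Subgroup.eq_of_le_of_card_ge inf_le_left (by rw [e, hxa])).ge.trans inf_le_right)
      hnc
  · exact e

theorem vp_subgroupOf {M B : Subgroup G} (hBM : B ≤ M) (s : ℕ) :
    vp s (B.subgroupOf M) = vp s B := by
  rw [vp, vp, Nat.card_congr (Subgroup.subgroupOfEquivOfLe hBM).toEquiv]

/-- `Part` inside `M`. -/
theorem part_subgroupOf {M B : Subgroup G} (hBM : B ≤ M) {s : ℕ}
    (hcent : ∀ v ∈ B, IsPEl s v → ∀ w ∈ B, Commute v w)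
    (hcEq : ∀ v ∈ B, IsPEl s v → ¬ M ≤ C v → M ⊓ C v ≤ B)
    (hex : ∃ v ∈ B, IsPEl s v ∧ ¬ M ≤ C v) : Part (B.subgroupOf M) s := by
  have hpe : ∀ v : M, IsPEl s v → IsPEl s (v : G) := fun v ⟨j, hj⟩ =>
    ⟨j, by rw [← hj, Subgroup.orderOf_coe]⟩
  have hnc : ∀ v : M, ¬ M ≤ C (v : G) → v ∉ Subgroup.center M := fun v hv hz => hv fun w hw =>
    mem_C.mpr (congrArg Subtype.val (Subgroup.mem_center_iff.mp hz ⟨w, hw⟩))
  refine ⟨fun v hv hvs w hw => ?_, fun v hv hvs hvZ => ?_, ?_⟩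
  · exact Subtype.ext (hcent v (Subgroup.mem_subgroupOf.mp hv) (hpe v hvs) w
      (Subgroup.mem_subgroupOf.mp hw)).eq
  · have hv' := Subgroup.mem_subgroupOf.mp hv
    have hn : ¬ M ≤ C (v : G) := fun hle => hvZ (Subgroup.mem_center_iff.mpr fun w =>
      Subtype.ext (mem_C.mp (hle w.2)).eq)
    ext w
    rw [mem_C, Subgroup.mem_subgroupOf]
    exact ⟨fun hc => hcEq v hv' (hpe v hvs) hn ⟨w.2, mem_C.mpr (congrArg Subtype.val hc.eq)⟩,
      fun hw => Subtype.ext (hcent v hv' (hpe v hvs) w hw).symm.eq⟩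
  · obtain ⟨v, hv, ⟨j, hj⟩, hn⟩ := hex
    exact ⟨⟨v, hBM hv⟩, Subgroup.mem_subgroupOf.mpr hv, ⟨j, by rw [Subgroup.orderOf_mk, hj]⟩,
      hnc _ hn⟩

/-- An abelian centraliser of the largest order. -/
theorem Sizes.not_abelian (h : Sizes G a b) (hba : b ∣ a) (hns : ¬ Group.IsSolvable G)
    {M : Subgroup G} (hMa : Nat.card M = a) (hZM : Subgroup.center G ≤ M) :
    ¬ IsMulCommutative M := by
  classical
  intro hM
  have hfact : ∀ t, b.factorization t ≤ a.factorization t := fun t =>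
    (Nat.factorization_le_iff_dvd h.b_pos.ne' (h.b_pos.trans h.lt).ne').mpr hba t
  have hvM : ∀ t : ℕ, vp t M = a.factorization t := fun t => by rw [vp, hMa]
  have hfull : ∀ t : ℕ, t.Prime → vp t M < (Nat.card G).factorization t → Part M t := by
    intro t ht hlt
    haveI := Fact.mk ht
    have hti : t ∣ (Subgroup.center G).index := by
      by_contra hnd
      have := congrArg (fun n => n.factorization t) (Subgroup.card_mul_index (Subgroup.center G))
      simp only [Nat.factorization_mul Nat.card_pos.ne' Subgroup.index_ne_zero_of_finite,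
        Finsupp.add_apply, Nat.factorization_eq_zero_of_not_dvd hnd, add_zero] at this
      exact absurd (vp_le (p := t) hZM) (not_le.mpr (by rw [vp, vp, this]; exact hlt))
    obtain ⟨w, hw, hwlt⟩ := exists_center_lt (p := t) hti
    have h1 : vp t (Subgroup.center G) < vp t M := by
      rw [hvM]
      refine hwlt.trans_le ?_
      rcases h.size w hw with e | e <;> rw [vp, e]
      exact hfact t
    obtain ⟨v, hv, hvt, hvZ⟩ := exists_pEl_notMem_of_vp_lt h1
    exact ⟨fun v hv _ w hw => congrArg Subtype.val (hM.is_comm.comm ⟨v, hv⟩ ⟨w, hw⟩),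
      fun v hv _ hvZ => h.C_eq_of_le hMa hvZ (le_C_of_comm hM hv), ⟨v, hv, hvt, hvZ⟩⟩
  have hle : ∀ t : ℕ, t.Prime → vp t M ≤ (Nat.card G).factorization t := fun t ht =>
    (Nat.factorization_le_iff_dvd Nat.card_pos.ne' Nat.card_pos.ne').mpr
      (Subgroup.card_subgroup_dvd_card M) t
  by_cases hs : ∃ s : ℕ, s.Prime ∧ vp s M < (Nat.card G).factorization s
  · obtain ⟨s, hs, hslt⟩ := hs
    haveI := Fact.mk hs
    refine hns (isSolvable_of_almost_full (s := s) hM fun t ht hts => ?_)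
    by_contra hne
    haveI := Fact.mk ht
    exact false_of_parts hts.symm (hfull s hs hslt) (hfull t ht ((hle t ht).lt_of_ne hne)) hslt
      ((hle t ht).lt_of_ne hne)
  · push Not at hs
    haveI := Fact.mk Nat.prime_two
    exact hns (isSolvable_of_almost_full (s := 2) hM fun t ht _ =>
      le_antisymm (hle t ht) (hs t ht))

/-- Two centraliser orders, one dividing the other. -/
theorem Sizes.false_of_dvd (h : Sizes G a b) (hba : b ∣ a) (hns : ¬ Group.IsSolvable G) :
    False := by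
  classical
  have ha0 : a ≠ 0 := (h.b_pos.trans h.lt).ne'
  have hfact : ∀ t, b.factorization t ≤ a.factorization t := fun t =>
    (Nat.factorization_le_iff_dvd h.b_pos.ne' ha0).mpr hba t
  -- the primes at which the two orders differ
  let inK : ℕ → Prop := fun t => t.Prime ∧ b.factorization t < a.factorization t
  have hKp : ∀ t, inK t → t.Prime := fun t ht => ht.1
  have hZlt : ∀ t : ℕ, t.Prime → t ∣ (Subgroup.center G).index →
      vp t (Subgroup.center G) < a.factorization t := by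
    intro t ht hti
    haveI := Fact.mk ht
    obtain ⟨w, hw, hwlt⟩ := exists_center_lt (p := t) hti
    refine hwlt.trans_le ?_
    rcases h.size w hw with e | e <;> rw [vp, e]
    exact hfact t
  have hKT : ∀ t, inK t → t ∣ (Subgroup.center G).index := by
    rintro t ⟨ht, hlt⟩
    by_contra hnd
    have h1 := congrArg (fun n => n.factorization t) (Subgroup.card_mul_index (Subgroup.center G))
    simp only [Nat.factorization_mul Nat.card_pos.ne' Subgroup.index_ne_zero_of_finite,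
      Finsupp.add_apply, Nat.factorization_eq_zero_of_not_dvd hnd, add_zero] at h1
    obtain ⟨w, hw, hwb⟩ := h.exB
    obtain ⟨w', hw', hwa⟩ := h.exA
    have e1 := vp_le (p := t) (center_le_C w)
    have e2 : vp t (C w') ≤ (Nat.card G).factorization t :=
      (Nat.factorization_le_iff_dvd Nat.card_pos.ne' Nat.card_pos.ne').mpr
        (Subgroup.card_subgroup_dvd_card (C w')) t
    simp only [vp, hwb, hwa] at e1 e2
    omega
  have hother : ∀ e : ℕ, e.Prime → ∃ t, inK t ∧ t ≠ e := by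
    intro e he
    haveI := Fact.mk he
    by_contra hcon
    push Not at hcon
    have hab : ∀ t : ℕ, t.Prime → t ≠ e → a.factorization t = b.factorization t := fun t ht hte =>
      le_antisymm (not_lt.mp fun hlt => hte (hcon t ⟨ht, hlt⟩)) (hfact t)
    have heK : inK e := by
      refine ⟨he, lt_of_le_of_ne (hfact e) fun he' => h.lt.ne
        (Nat.eq_of_factorization_eq h.b_pos.ne' ha0 fun t => ?_)⟩
      by_cases ht : t.Prime
      · rcases eq_or_ne t e with rfl | hte
        exacts [he', (hab t ht hte).symm]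
      · rw [Nat.factorization_eq_zero_of_not_prime _ ht, Nat.factorization_eq_zero_of_not_prime _ ht]
    exact h.false_of_primePow hns (hKT e heK) hab
  -- elements of prime power order with the largest centralisers
  have hnoncentral : ∀ {p : ℕ} [Fact p.Prime] {x : G}, x ∉ Subgroup.center G → IsPEl p x →
      Nat.card (C x) = a → ∀ s, inK s → ∃ v ∈ C x, IsPEl s v ∧ ¬ C x ≤ C v := by
    intro p _ x hx hxp hxa s hs
    have hMnc := h.not_abelian hba hns hxa (center_le_C x)
    by_contra hcon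
    push Not at hcon
    obtain ⟨u, t, ht, hu, hut, hun, htp⟩ : ∃ (u : G) (t : ℕ), t.Prime ∧ u ∈ C x ∧ IsPEl t u ∧
        ¬ C x ≤ C u ∧ t ≠ p := by
      by_contra hc2
      push Not at hc2
      obtain ⟨s₀, hs₀, hs₀p⟩ := hother p Fact.out
      haveI := Fact.mk hs₀.1
      obtain ⟨u, hu, t, ht, hut, hun⟩ : ∃ u ∈ C x, ∃ t, t.Prime ∧ IsPEl t u ∧ ¬ C x ≤ C u := by
        by_contra hc3
        push Not at hc3
        exact hMnc (isMulCommutative_of_pEl fun t ht v hv hvt => hc3 v hv t ht hvt)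
      obtain rfl := hc2 u t ht hu hut hun
      have hcen : ∀ v ∈ C x, IsPEl s₀ v → C x ≤ C v := fun v hv hvs => by
        by_contra hvn
        exact hs₀p (hc2 v s₀ hs₀.1 hv hvs hvn)
      obtain ⟨v, hv, hvs, hvZ⟩ := exists_pEl_notMem_of_vp_lt
        (show vp s₀ (Subgroup.center G) < vp s₀ (C x) by
          show _ < (Nat.card (C x)).factorization s₀
          rw [hxa]; exact hZlt s₀ hs₀.1 (hKT s₀ hs₀))
      have hCv := h.C_eq_of_le hxa hvZ (hcen v hv hvs)
      have hb := h.card_inf hvZ (by rw [hCv, hxa]) (by rw [hCv]; exact hu)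
        (hvs.coprime hs₀p hut) (by rw [hCv]; exact hun)
      obtain ⟨Q, hQM, hQ, hQc⟩ := exists_sylow_of_le (p := s₀) (C x)
      have hle := card_le_of_isPGroup hQ (H := C v ⊓ C u) fun w hw =>
        ⟨hCv ▸ hQM hw, mem_C_symm (hcen w (hQM hw) (isPEl_of_isPGroup hQ hw) hu)⟩
      rw [hQc, vp, vp, hxa, hb] at hle
      exact absurd ((Nat.pow_le_pow_iff_right hs₀.1.one_lt).mp hle) (not_le.mpr hs₀.2)
    haveI := Fact.mk ht
    haveI := Fact.mk hs.1
    have hb := h.card_inf hx hxa hu (hxp.coprime htp.symm hut) hun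
    obtain ⟨Q, hQM, hQ, hQc⟩ := exists_sylow_of_le (p := s) (C x)
    have hle := card_le_of_isPGroup hQ (H := C x ⊓ C u) fun w hw =>
      ⟨hQM hw, mem_C_symm (hcon w (hQM hw) (isPEl_of_isPGroup hQ hw) hu)⟩
    rw [hQc, vp, vp, hxa, hb] at hle
    exact absurd ((Nat.pow_le_pow_iff_right hs.1.one_lt).mp hle) (not_le.mpr hs.2)
  have hmem : ∀ {p : ℕ} [Fact p.Prime] {x : G}, x ∉ Subgroup.center G → IsPEl p x →
      Nat.card (C x) = a → ∀ s, inK s → s ≠ p → ∀ B : Subgroup G, B ≤ C x → Nat.card B = b →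
      ∃ v ∈ B, IsPEl s v ∧ ¬ C x ≤ C v := by
    intro p _ x hx hxp hxa s hs hsp B hBM hB
    haveI := Fact.mk hs.1
    obtain ⟨d, hd, hds, hdn⟩ := hnoncentral hx hxp hxa s hs
    have hb := h.card_inf hx hxa hd (hxp.coprime hsp.symm hds) hdn
    have h1 : vp s (C x ⊓ Subgroup.centralizer (C x : Set G)) < vp s (C x ⊓ C d) :=
      vp_lt (le_inf inf_le_left fun w hw => mem_C.mpr
          (Subgroup.mem_centralizer_iff.mp hw.2 d hd).symm)
        ⟨hd, self_mem_C d⟩ hds
        (fun hd' => hdn fun w hw => mem_C.mpr (Subgroup.mem_centralizer_iff.mp hd'.2 w hw))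
        fun w hw => Subgroup.mem_centralizer_iff.mp hw.2 d hd
    rw [vp_congr (show Nat.card (C x ⊓ C d : Subgroup G) = Nat.card B by rw [hb, hB])] at h1
    obtain ⟨v, hv, hvs, hvn⟩ := exists_pEl_notMem_of_vp_lt h1
    exact ⟨v, hv, hvs, fun hle => hvn ⟨hBM hv,
      Subgroup.mem_centralizer_iff.mpr fun w hw => (mem_C.mp (hle hw)).eq⟩⟩
  -- only one further prime
  have honly : ∀ {p : ℕ} [Fact p.Prime] {x : G}, x ∉ Subgroup.center G → IsPEl p x →
      Nat.card (C x) = a → ∀ s₁ s₂, inK s₁ → inK s₂ → s₁ ≠ p → s₂ ≠ p → s₁ = s₂ := by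
    intro p _ x hx hxp hxa s₁ s₂ hs₁ hs₂ h1p h2p
    by_contra hne
    haveI := Fact.mk hs₁.1
    haveI := Fact.mk hs₂.1
    obtain ⟨d₁, hd₁, hd₁s, hd₁n⟩ := hnoncentral hx hxp hxa s₁ hs₁
    set B := C x ⊓ C d₁ with hB
    have hBb : Nat.card B = b := h.card_inf hx hxa hd₁ (hxp.coprime h1p.symm hd₁s) hd₁n
    have hBC : ∀ {s : ℕ} [Fact s.Prime] {d : G}, d ∈ C x → IsPEl s d → s ≠ p →
        C x ⊓ C d = B → ∀ {t : ℕ} [Fact t.Prime], t ≠ p → t ≠ s →
        ∀ v ∈ B, IsPEl t v → ∀ w ∈ B, Commute v w := by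
      intro s _ d hd hds hsp hdB t _ htp hts v hv hvt w hw
      have hco := hxp.coprime hsp.symm hds
      have hy : C (x * d) = B := by rw [C_mul (mem_C.mp hd).symm hco, hdB]
      have hyZ : x * d ∉ Subgroup.center G := fun hz => hx (C_eq_top_iff.mp (eq_top_iff.mpr (by
        rw [← C_eq_top_iff.mpr hz, C_mul (mem_C.mp hd).symm hco]; exact inf_le_left)))
      have hle := h.C_le_of_min hyZ (by rw [hy, hBb]) (u := v) (by rw [hy]; exact hv)
        (((hxp.coprime htp.symm hvt).mul (hds.coprime hts.symm hvt)).coprime_dvd_left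
          (mem_C.mp hd).symm.orderOf_mul_dvd_mul_orderOf)
      exact (mem_C.mp (hle (by rw [hy]; exact hw))).symm
    obtain ⟨d₂, hd₂, hd₂s, hd₂n⟩ := hmem hx hxp hxa s₂ hs₂ h2p B inf_le_left hBb
    have hcent₂ := hBC hd₁ hd₁s h1p rfl (t := s₂) h2p (Ne.symm hne)
    have hd₂B : C x ⊓ C d₂ = B := (Subgroup.eq_of_le_of_card_ge
      (le_inf inf_le_left fun w hw => mem_C.mpr (hcent₂ d₂ hd₂ hd₂s w hw).symm) (by
        rw [hBb, h.card_inf hx hxa hd₂.1 (hxp.coprime h2p.symm hd₂s) hd₂n])).symm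
    have hcent₁ := hBC hd₂.1 hd₂s h2p hd₂B (t := s₁) h1p hne
    have key : ∀ s, inK s → s ≠ p → (∀ v ∈ B, IsPEl s v → ∀ w ∈ B, Commute v w) →
        (∃ v ∈ B, IsPEl s v ∧ ¬ C x ≤ C v) → Part (B.subgroupOf (C x)) s := by
      intro s hs hsp hc hex
      haveI := Fact.mk hs.1
      refine part_subgroupOf inf_le_left hc (fun v hv hvs hvn => ?_) hex
      refine (Subgroup.eq_of_le_of_card_ge
        (le_inf inf_le_left fun w hw => mem_C.mpr (hc v hv hvs w hw).symm) ?_).ge
      rw [hBb, h.card_inf hx hxa hv.1 (hxp.coprime hsp.symm hvs) hvn]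
    refine false_of_parts hne (key s₁ hs₁ h1p hcent₁ ⟨d₁, ⟨hd₁, self_mem_C d₁⟩, hd₁s, hd₁n⟩)
      (key s₂ hs₂ h2p hcent₂ ⟨d₂, hd₂, hd₂s, hd₂n⟩) ?_ ?_
    · rw [vp_subgroupOf inf_le_left, vp, hBb, hxa]; exact hs₁.2
    · rw [vp_subgroupOf inf_le_left, vp, hBb, hxa]; exact hs₂.2
  -- a largest centraliser and its two primes
  obtain ⟨g, hg, hga⟩ := h.exA
  obtain ⟨p, hp, x, hxg, hxp, hx⟩ := exists_primePart hg
  haveI := hp
  have hxa : Nat.card (C x) = a := by
    rw [h.C_eq_of_le hga hx (C_le_of_mem_zpowers hxg), hga]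
  obtain ⟨q, hqK, hqp⟩ := hother p hp.out
  haveI := Fact.mk hqK.1
  have hpK : inK p := by
    obtain ⟨t, htK, htq⟩ := hother q hqK.1
    by_contra hpK
    exact htq (honly hx hxp hxa t q htK hqK (fun e => hpK (e ▸ htK)) hqp)
  obtain ⟨r, hr, hri, hrp, hrq⟩ := exists_third_prime hns hp.out hqK.1
  haveI := Fact.mk hr
  have hrK : ¬ inK r := fun hrK => hrq (honly hx hxp hxa r q hrK hqK hrp hqp)
  have hab : a.factorization r = b.factorization r :=
    le_antisymm (not_lt.mp fun hlt => hrK ⟨hr, hlt⟩) (hfact r)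
  have hrfull : b.factorization r < (Nat.card G).factorization r := by
    obtain ⟨w, hw, hlt⟩ := exists_vp_lt (p := r) hri
    rcases h.size w hw with e | e <;> rw [vp, e] at hlt
    · exact hab ▸ hlt
    · exact hlt
  have hrsmall : ∀ v : G, v ∉ Subgroup.center G → IsPEl r v → Nat.card (C v) = b := by
    intro v hv hvr
    rcases h.size v hv with e | e
    · exact absurd (honly hv hvr e p q hpK hqK hrp.symm hrq.symm) hqp.symm
    · exact e
  -- a smallest centraliser inside the largest one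
  obtain ⟨u, hu, hur, huZ⟩ := exists_pEl_notMem_of_vp_lt
    (show vp r (Subgroup.center G) < vp r (C x) by
      show _ < (Nat.card (C x)).factorization r
      rw [hxa]; exact hZlt r hr hri)
  have hun : ¬ C x ≤ C u := fun hle => h.lt.ne (by
    rw [← hrsmall u huZ hur, h.C_eq_of_le hxa huZ hle, hxa])
  have hBu : C u ≤ C x := (Subgroup.eq_of_le_of_card_ge (inf_le_right (a := C x)) (by
    rw [h.card_inf hx hxa hu (hxp.coprime hrp.symm hur) hun, hrsmall u huZ hur])).ge.trans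
      inf_le_left
  set B := C u with hB
  have hBb : Nat.card B = b := hrsmall u huZ hur
  obtain ⟨d, hd, hdq, hdn⟩ := hmem hx hxp hxa q hqK hqp B hBu hBb
  have hcent' : ∀ {t : ℕ} [Fact t.Prime], t ≠ r → ∀ v ∈ B, IsPEl t v → B ≤ C v :=
    fun htr v hv hvt => h.C_le_of_min huZ hBb hv (hur.coprime (Ne.symm htr) hvt)
  have hdB : C x ⊓ C d = B := (Subgroup.eq_of_le_of_card_ge
    (le_inf hBu (hcent' (Ne.symm hrq) d hd hdq)) (by
      rw [hBb, h.card_inf hx hxa (hBu hd) (hxp.coprime hqp.symm hdq) hdn])).symm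
  have hBc : IsMulCommutative B := isMulCommutative_of_pEl fun t ht v hv hvt => by
    haveI := Fact.mk ht
    rcases eq_or_ne t r with rfl | htr
    · have hco := hxp.coprime hqp.symm hdq
      have hy : C (x * d) = B := by rw [C_mul (mem_C.mp (hBu hd)).symm hco, hdB]
      have hyZ : x * d ∉ Subgroup.center G := fun hz => hx (C_eq_top_iff.mp (eq_top_iff.mpr (by
        rw [← C_eq_top_iff.mpr hz, C_mul (mem_C.mp (hBu hd)).symm hco]; exact inf_le_left)))
      have hle := h.C_le_of_min hyZ (by rw [hy, hBb]) (u := v) (by rw [hy]; exact hv)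
        (((hxp.coprime hrp.symm hvt).mul (hdq.coprime hrq.symm hvt)).coprime_dvd_left
          (mem_C.mp (hBu hd)).symm.orderOf_mul_dvd_mul_orderOf)
      rwa [hy] at hle
    · exact hcent' htr v hv hvt
  have hcomm : ∀ v ∈ B, ∀ w ∈ B, Commute v w := fun v hv w hw =>
    congrArg Subtype.val (hBc.is_comm.comm ⟨v, hv⟩ ⟨w, hw⟩)
  have hPr : Part B r := ⟨fun v hv _ => hcomm v hv,
    fun v hv hvr hvZ => (Subgroup.eq_of_le_of_card_ge (le_C_of_comm hBc hv)
      (by rw [hrsmall v hvZ hvr, hBb])).symm, ⟨u, self_mem_C u, hur, huZ⟩⟩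
  have hBr : vp r B = b.factorization r := by rw [vp, hBb]
  obtain ⟨Q, hQs⟩ := hPr.exists_conjSemi
  obtain ⟨U, hBU, hUN, hNU, hUpow⟩ := hQs.exists_normal (hPr.dvd_relIndex (hBr ▸ hrfull))
  obtain ⟨u₁, hu₁U, hu₁r, hu₁B⟩ : ∃ u₁ ∈ U, IsPEl r u₁ ∧ u₁ ∉ B := by
    by_contra hcon
    push Not at hcon
    refine not_le_of_gt hBU (le_of_pEl fun t ht v hv hvt => ?_)
    haveI := Fact.mk ht
    rcases eq_or_ne t r with rfl | htr
    · exact hcon v hv hvt
    obtain ⟨j, hj⟩ := hUpow v hv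
    obtain ⟨i, hi⟩ := hvt
    obtain ⟨k, hk⟩ := exists_pow_eq_self_of_coprime (x := v) (n := r ^ j)
      (by rw [hi]; exact ((Nat.coprime_primes hr ht).mpr htr.symm).pow _ _)
    exact hk ▸ B.pow_mem hj k
  obtain ⟨Qr, hQrB, hQr, hQrc, -, hQrmax, -, hNQr⟩ := hPr.exists_part
  have hmoves : ∀ c ∈ B, c ∉ Subgroup.center G → ¬ Commute u₁ c := by
    intro c hc hcZ hu₁c
    have hle := card_le_of_isPGroup (IsPGroup.to_sup_of_normal_right' hu₁r.isPGroup hQr
      (Subgroup.zpowers_le.mpr (hNQr (hUN hu₁U))))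
      (sup_le (Subgroup.zpowers_le.mpr (mem_C.mpr hu₁c)) (hQrB.trans (le_C_of_comm hBc hc)))
    rw [show vp r (C c) = vp r B by
      rcases h.size c hcZ with e | e <;> rw [vp, e, hBr]
      exact hab, ← hQrc] at hle
    exact hu₁B (hQrB ((Subgroup.eq_of_le_of_card_ge le_sup_right hle).symm ▸
      Subgroup.mem_sup_left (Subgroup.mem_zpowers u₁)))
  -- the action on the `q`-part
  obtain ⟨V, hVB, hV, hVc, hVcomm, hVmax⟩ := exists_tPart hBc q
  letI : CommGroup V := { (inferInstance : Group V) with mul_comm := hVcomm.is_comm.comm }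
  set N := Subgroup.normalizer (B : Set G)
  have hNV : N ≤ Subgroup.normalizer (V : Set G) := by
    intro n hn
    refine Subgroup.mem_normalizer_iff_map_conj_eq.mpr (Subgroup.eq_of_le_of_card_ge ?_
      (by rw [Subgroup.card_map_of_injective (MulAut.conj n).injective]))
    rintro _ ⟨w, hw, rfl⟩
    exact hVmax _ ((Subgroup.mem_normalizer_iff.mp hn w).mp (hVB hw))
      ((isPEl_of_isPGroup hV hw).conj n)
  set ψ : N →* MulAut V := V.normalizerMonoidHom.comp (Subgroup.inclusion hNV)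
  have hψ : ∀ (n : N) (v : V), (ψ n v : G) = n * v * (n : G)⁻¹ := fun n v => rfl
  set H := (U.subgroupOf N).map ψ
  set φ := MonoidHom.id (MulAut V)
  have hHr : IsPGroup r H := by
    rintro ⟨_, n, hn, rfl⟩
    obtain ⟨j, hj⟩ := hUpow n (Subgroup.mem_subgroupOf.mp hn)
    refine ⟨j, Subtype.ext ?_⟩
    rw [SubgroupClass.coe_pow, Subgroup.coe_one, ← map_pow]
    refine MulEquiv.ext fun v => Subtype.ext ?_
    rw [hψ, MulAut.one_apply, mul_inv_eq_iff_eq_mul, SubgroupClass.coe_pow]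
    exact (hcomm _ hj _ (hVB v.2)).eq
  have hHq : ¬ q ∣ Nat.card H := not_dvd_card_of_isPGroup hHr hrq
  have hD : moved φ H ≠ ⊥ := by
    rw [Ne, moved_eq_bot_iff]
    intro hall
    have := congrArg Subtype.val (hall _ ⟨⟨u₁, hUN hu₁U⟩, Subgroup.mem_subgroupOf.mpr hu₁U, rfl⟩
      ⟨d, hVmax d hd hdq⟩)
    rw [MonoidHom.id_apply, hψ, mul_inv_eq_iff_eq_mul] at this
    exact hmoves d hd (fun hz => hdn (by rw [C_eq_top_iff.mpr hz]; exact le_top)) this
  have hpart : ∀ s, inK s → (∀ v ∈ B, IsPEl s v → ¬ C x ≤ C v →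
      Nat.card (C x ⊓ C v : Subgroup G) = b) → (∃ v ∈ B, IsPEl s v ∧ ¬ C x ≤ C v) →
      Part (B.subgroupOf (C x)) s := fun s _ hc hex =>
    part_subgroupOf hBu (fun v hv _ => hcomm v hv) (fun v hv hvs hvn =>
      (Subgroup.eq_of_le_of_card_ge (le_inf hBu (le_C_of_comm hBc hv))
        (by rw [hBb, hc v hv hvs hvn])).ge) hex
  have hPq : Part (B.subgroupOf (C x)) q := hpart q hqK
    (fun v hv hvs hvn => h.card_inf hx hxa (hBu hv) (hxp.coprime hqp.symm hvs) hvn)
    ⟨d, hd, hdq, hdn⟩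
  have hlt : ∀ s, inK s → vp s (B.subgroupOf (C x)) < (Nat.card (C x)).factorization s :=
    fun s hs => by rw [vp_subgroupOf hBu, vp, hBb, hxa]; exact hs.2
  obtain ⟨g', ⟨j, hj⟩, hgn, hgB⟩ := hPq.exists_normalizing (hlt q hqK)
  have hg' : (g' : G) ∈ N := by
    refine Subgroup.mem_normalizer_iff_map_conj_eq.mpr (Subgroup.eq_of_le_of_card_ge ?_
      (by rw [Subgroup.card_map_of_injective (MulAut.conj (g' : G)).injective]))
    rintro _ ⟨w, hw, rfl⟩
    exact Subgroup.mem_subgroupOf.mp ((Subgroup.mem_normalizer_iff.mp hgn ⟨w, hBu hw⟩).mp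
      (Subgroup.mem_subgroupOf.mpr hw))
  set γ := ψ ⟨g', hg'⟩
  have hγH : γ ∈ Subgroup.normalizer (H : Set (MulAut V)) := by
    refine Subgroup.le_normalizer_map ψ ⟨⟨g', hg'⟩, Subgroup.mem_normalizer_iff.mpr fun n => ?_,
      rfl⟩
    simp only [Subgroup.mem_subgroupOf, Subgroup.coe_mul, InvMemClass.coe_inv]
    exact Subgroup.mem_normalizer_iff.mp (hNU hg') n
  have hγq : IsPGroup q (Subgroup.zpowers γ) := by
    refine (IsPEl.of_pow (p := q) (j := j) ?_).isPGroup
    have e : (⟨(g' : G), hg'⟩ : N) ^ q ^ j = 1 := by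
      rw [← hj]
      refine Subtype.ext ?_
      show (g' : G) ^ orderOf g' = 1
      rw [← Subgroup.orderOf_coe, pow_orderOf_eq_one]
    rw [← map_pow, e, map_one]
  obtain ⟨c, hc, hc1, hcfix⟩ := exists_fixed_mem φ hV hD
    (fun w hw => mem_moved_of_normalizes φ hγH hw) hγq
  have hcZ : (c : G) ∉ Subgroup.center G := by
    intro hz
    refine hc1 (eq_one_of_mem_moved φ hV hHq hc ?_)
    rintro _ ⟨n, -, rfl⟩
    refine Subtype.ext ?_
    rw [MonoidHom.id_apply, hψ, mul_inv_eq_iff_eq_mul]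
    exact Subgroup.mem_center_iff.mp hz n
  have hgc : (g' : G) ∈ C (c : G) := by
    have := congrArg Subtype.val hcfix
    rw [MonoidHom.id_apply, hψ, mul_inv_eq_iff_eq_mul] at this
    exact mem_C.mpr this
  have hcq : IsPEl q (c : G) := isPEl_of_isPGroup hV c.2
  by_cases hcn : C x ≤ C (c : G)
  swap
  · refine hgB (Subgroup.mem_subgroupOf.mpr ((Subgroup.eq_of_le_of_card_ge
      (le_inf hBu (le_C_of_comm hBc (hVB c.2))) ?_).ge ⟨g'.2, hgc⟩))
    rw [hBb, h.card_inf hx hxa (hBu (hVB c.2)) (hxp.coprime hqp.symm hcq) hcn]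
  -- a second base element
  have hCc := h.C_eq_of_le hxa hcZ hcn
  have hca : Nat.card (C (c : G)) = a := by rw [hCc, hxa]
  refine false_of_parts hqp.symm (hpart p hpK (fun v hv hvs hvn => ?_) ?_) hPq (hlt p hpK)
    (hlt q hqK)
  · have e := h.card_inf hcZ hca (by rw [hCc]; exact hBu hv) (hcq.coprime hqp hvs)
      (by rw [hCc]; exact hvn)
    rwa [hCc] at e
  · have e := hmem hcZ hcq hca p hpK hqp.symm B (by rw [hCc]; exact hBu) hBb
    rwa [hCc] at e

end CfsgLib.ClassSizesThree
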