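import Mathlib
import Cfsg.Agent.S0033
import Cfsg.Agent.Lib.ClassSizesThree.Two

/-!
Abelian centralisers which are the centralisers of all their non-central elements: counting, and
the self-normalising case.
-/

set_option autoImplicit false
set_option linter.unusedSectionVars false
set_option linter.style.haveILetI false

open scoped commutatorElement

namespace CfsgLib.ClassSizesThree

/-- Two proper subgroups, both smaller than their normalisers, do not cover a group by
conjugates. -/
theorem not_cover {W : Type*} [Group W] [Finite W] {A B : Subgroup W} (hA : A ≠ ⊤) (hB : B ≠ ⊤)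
    (hNA : A < Subgroup.normalizer (A : Set W)) (hNB : B < Subgroup.normalizer (B : Set W))
    (hcov : ∀ g : W, g ≠ 1 → ∃ h : W, h * g * h⁻¹ ∈ A ∨ h * g * h⁻¹ ∈ B) : False := by
  classical
  haveI : Fintype W := Fintype.ofFinite W
  let conjs : Subgroup W → Finset W := fun D =>
    ((Finset.univ : Finset (W ⧸ Subgroup.normalizer (D : Set W))) ×ˢ
      (D : Set W).toFinset.erase 1).image fun ca => ca.1.out * ca.2 * ca.1.out⁻¹
  have hmem : ∀ (D : Subgroup W) (g h : W), g ≠ 1 → h * g * h⁻¹ ∈ D → g ∈ conjs D := by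
    intro D g h hg hD
    obtain ⟨n, hn⟩ := QuotientGroup.mk_out_eq_mul (Subgroup.normalizer (D : Set W)) h⁻¹
    set c := (QuotientGroup.mk h⁻¹ : W ⧸ Subgroup.normalizer (D : Set W))
    refine Finset.mem_image.mpr ⟨(c, c.out⁻¹ * g * c.out), ?_, by group⟩
    simp only [Finset.mem_product, Finset.mem_univ, true_and, Finset.mem_erase,
      Set.mem_toFinset, SetLike.mem_coe]
    refine ⟨fun e => hg ?_, ?_⟩
    · calc g = c.out * (c.out⁻¹ * g * c.out) * c.out⁻¹ := by group
        _ = 1 := by rw [e, mul_one, mul_inv_cancel]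
    · rw [hn, show (h⁻¹ * (n : W))⁻¹ * g * (h⁻¹ * n) = (n : W)⁻¹ * (h * g * h⁻¹) * (n : W)⁻¹⁻¹ by
        group]
      exact (Subgroup.mem_normalizer_iff.mp (inv_mem n.2) _).mp hD
  have hcard : ∀ D : Subgroup W, D ≠ ⊤ → D < Subgroup.normalizer (D : Set W) →
      2 * (conjs D).card + D.index ≤ Nat.card W ∧ 2 ≤ D.index := by
    intro D hD hND
    have h1 : (conjs D).card ≤ (Subgroup.normalizer (D : Set W)).index * (Nat.card D - 1) := by
      refine Finset.card_image_le.trans (le_of_eq ?_)
      rw [Finset.card_product, Finset.card_univ, Subgroup.index_eq_card,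
        Nat.card_eq_fintype_card, Finset.card_erase_of_mem
          (by rw [Set.mem_toFinset, SetLike.mem_coe]; exact D.one_mem), Set.toFinset_card,
        Nat.card_eq_fintype_card]
      rfl
    have h2 : 2 ≤ D.relIndex (Subgroup.normalizer (D : Set W)) := by
      have h0 : D.relIndex (Subgroup.normalizer (D : Set W)) ≠ 0 := fun e => by
        have := card_mul_relIndex hND.le
        rw [e, mul_zero] at this
        exact Nat.card_pos.ne' this.symm
      have h1' : D.relIndex (Subgroup.normalizer (D : Set W)) ≠ 1 := fun e =>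
        not_le_of_gt hND (Subgroup.relIndex_eq_one.mp e)
      omega
    have h3 := Subgroup.relIndex_mul_index hND.le
    have h4 : D.index * (Nat.card D - 1) + D.index = Nat.card W := by
      rw [← Subgroup.card_mul_index D, mul_comm (Nat.card D), ← Nat.mul_succ]
      congr 1
      have := Nat.card_pos (α := D)
      omega
    refine ⟨?_, ?_⟩
    · calc 2 * (conjs D).card + D.index
          ≤ D.relIndex (Subgroup.normalizer (D : Set W)) *
              ((Subgroup.normalizer (D : Set W)).index * (Nat.card D - 1)) + D.index :=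
            Nat.add_le_add_right (Nat.mul_le_mul h2 h1) _
        _ = D.index * (Nat.card D - 1) + D.index := by rw [← mul_assoc, h3]
        _ = Nat.card W := h4
    · have := Subgroup.index_ne_zero_of_finite (H := D)
      have : D.index ≠ 1 := fun e => hD (Subgroup.index_eq_one.mp e)
      omega
  have hsub : Finset.univ.erase (1 : W) ⊆ conjs A ∪ conjs B := by
    intro g hg
    have hg1 := (Finset.mem_erase.mp hg).1
    obtain ⟨h, hh | hh⟩ := hcov g hg1
    · exact Finset.mem_union_left _ (hmem A g h hg1 hh)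
    · exact Finset.mem_union_right _ (hmem B g h hg1 hh)
  have h5 := (Finset.card_le_card hsub).trans (Finset.card_union_le _ _)
  rw [Finset.card_erase_of_mem (Finset.mem_univ _), Finset.card_univ,
    ← Nat.card_eq_fintype_card] at h5
  have := (hcard A hA hNA)
  have := (hcard B hB hNB)
  have := Nat.card_pos (α := W)
  omega

variable {G : Type*} [Group G] [Finite G]

/-- An abelian subgroup that is the centraliser of each of its non-central elements. -/
structure TI (M : Subgroup G) : Prop where
  comm : IsMulCommutative M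
  le : Subgroup.center G ≤ M
  cEq : ∀ v ∈ M, v ∉ Subgroup.center G → C v = M

variable {M : Subgroup G}

theorem TI.part (h : TI M) {t : ℕ} [Fact t.Prime]
    (ht : vp t (Subgroup.center G) < vp t M) : Part M t := by
  obtain ⟨v, hv, hvt, hvZ⟩ := exists_pEl_notMem_of_vp_lt ht
  exact ⟨fun v hv _ w hw => (mem_C.mp (le_C_of_comm h.comm hv hw)).symm,
    fun v hv _ hvZ => h.cEq v hv hvZ, ⟨v, hv, hvt, hvZ⟩⟩

theorem TI.mem_center_of_vp_eq (h : TI M) {t : ℕ} [Fact t.Prime]
    (ht : vp t M = vp t (Subgroup.center G)) {v : G} (hv : v ∈ M) (hvt : IsPEl t v) :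
    v ∈ Subgroup.center G := by
  by_contra hvZ
  exact (vp_center_lt h.le hv hvt hvZ).ne' ht

theorem TI.mem_normalizer (h : TI M) {v g : G} (hv : v ∈ M) (hvZ : v ∉ Subgroup.center G)
    (hg : g * v * g⁻¹ ∈ M) : g ∈ Subgroup.normalizer (M : Set G) := by
  have e := h.cEq _ hg fun hz => hvZ (mem_center_of_conj hz)
  rw [C_conj, h.cEq v hv hvZ] at e
  exact Subgroup.mem_normalizer_iff_map_conj_eq.mpr e

theorem TI.ne_top (h : TI M) (hns : ¬ Group.IsSolvable G) : M ≠ ⊤ := by
  intro e
  refine hns (Group.isSolvable_of_comm fun x y => ?_)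
  exact (mem_C.mp (le_C_of_comm h.comm (e ▸ Subgroup.mem_top y) (e ▸ Subgroup.mem_top x))).eq

/-- A power of a `p`-element outside `H` with `p`-th power in `H`. -/
theorem exists_pow_step {p : ℕ} [Fact p.Prime] {H : Subgroup G} {g : G} (hg : IsPEl p g)
    (hgH : g ∉ H) : ∃ v ∈ Subgroup.zpowers g, IsPEl p v ∧ v ∉ H ∧ v ^ p ∈ H := by
  classical
  obtain ⟨j, hj⟩ := hg
  have hex : ∃ k, g ^ p ^ k ∈ H := ⟨j, by rw [← hj, pow_orderOf_eq_one]; exact one_mem _⟩
  have h0 : Nat.find hex ≠ 0 := fun e => hgH (by
    have := Nat.find_spec hex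
    rwa [e, pow_zero, pow_one] at this)
  obtain ⟨k, hk⟩ := Nat.exists_eq_succ_of_ne_zero h0
  refine ⟨g ^ p ^ k, Subgroup.pow_mem _ (Subgroup.mem_zpowers g) _,
    isPEl_of_isPGroup (IsPEl.isPGroup ⟨j, hj⟩) (Subgroup.pow_mem _ (Subgroup.mem_zpowers g) _),
    Nat.find_min hex (by omega), ?_⟩
  rw [← pow_mul, ← pow_succ]
  have := Nat.find_spec hex
  rwa [hk] at this

/-- A self-normalising one forces solvability. -/
theorem TI.false_of_self (h : TI M) (hns : ¬ Group.IsSolvable G)
    (hex : ∃ t : ℕ, t.Prime ∧ vp t (Subgroup.center G) < vp t M)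
    (hself : Subgroup.normalizer (M : Set G) ≤ M) : False := by
  classical
  apply hns
  set Z := Subgroup.center G
  set K := commutator G
  have hK : ∀ t : ℕ, t.Prime → vp t Z < vp t M → ¬ t ∣ Nat.card K := by
    intro t ht hlt
    haveI := Fact.mk ht
    have hfull : vp t M = (Nat.card G).factorization t := by
      refine le_antisymm ((Nat.factorization_le_iff_dvd Nat.card_pos.ne' Nat.card_pos.ne').mpr
        (Subgroup.card_subgroup_dvd_card M) t) (not_lt.mp fun hl => ?_)
      obtain ⟨g, -, hgN, hgM⟩ := (h.part hlt).exists_normalizing hl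
      exact hgM (hself hgN)
    obtain ⟨Q, hQM, hQ, hQc⟩ := exists_sylow_of_le (p := t) M
    rw [hfull] at hQc
    let P : Sylow t G := Sylow.ofCard Q hQc
    have hPQ : (P : Subgroup G) = Q := Sylow.coe_ofCard Q hQc
    have hNC : Subgroup.normalizer ((P : Subgroup G) : Set G) ≤
        Subgroup.centralizer ((P : Subgroup G) : Set G) := by
      rw [hPQ]
      intro n hn
      obtain ⟨v, hv, hvZ⟩ : ∃ v ∈ Q, v ∉ Z := by
        by_contra hcon
        push Not at hcon
        have := card_le_of_isPGroup hQ (H := Z) hcon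
        rw [hQc, ← hfull] at this
        exact absurd ((Nat.pow_le_pow_iff_right ht.one_lt).mp this) (not_le.mpr hlt)
      have hnM := hself (h.mem_normalizer (hQM hv) hvZ
        (hQM ((Subgroup.mem_normalizer_iff.mp hn v).mp hv)))
      exact Subgroup.mem_centralizer_iff.mpr fun q hq =>
        (mem_C.mp (le_C_of_comm h.comm hnM (hQM hq))).eq
    have hk := MonoidHom.ker_transferSylow_isComplement' P hNC
    set T := MonoidHom.transferSylow P hNC
    have hKT : K ≤ T.ker := by
      rw [show K = ⁅(⊤ : Subgroup G), ⊤⁆ from commutator_def G, Subgroup.commutator_le]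
      intro a _ b _
      have hc : ∀ x y : (P : Subgroup G), Commute x y := fun x y => Subtype.ext
        ((Subgroup.mem_centralizer_iff.mp (hNC (Subgroup.le_normalizer x.2)) y y.2).symm)
      rw [MonoidHom.mem_ker, map_commutatorElement, commutatorElement_eq_one_iff_commute]
      exact hc _ _
    intro hd
    refine P.not_dvd_index (hd.trans ((Subgroup.card_dvd_of_le hKT).trans ?_))
    rw [hk.index_eq_card]
  -- the quotient by the centre
  set π := QuotientGroup.mk' Z
  set Kb := K.map π
  haveI : Kb.Normal := (inferInstance : K.Normal).map π (QuotientGroup.mk'_surjective Z)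
  obtain ⟨p, hp, hlt⟩ := hex
  haveI := Fact.mk hp
  obtain ⟨w, hw, hwp, hwZ⟩ := exists_pEl_notMem_of_vp_lt hlt
  obtain ⟨v, hvw, hvp, hvZ, hvpZ⟩ := exists_pow_step hwp hwZ
  have hvM : v ∈ M := Subgroup.zpowers_le.mpr hw hvw
  have hKM : ∀ k ∈ K, k ∈ M → k ∈ Z := by
    suffices hle : K ⊓ M ≤ Z from fun k hk hkM => hle ⟨hk, hkM⟩
    refine le_of_pEl fun t ht x ⟨hxK, hxM⟩ hxt => ?_
    haveI := Fact.mk ht
    by_cases hlt' : vp t Z < vp t M
    · obtain ⟨j, hj⟩ := hxt
      have : orderOf x = 1 := Nat.eq_one_of_dvd_coprimes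
        ((ht.coprime_iff_not_dvd.mpr (hK t ht hlt')).pow_left j) (hj ▸ dvd_rfl)
        (Subgroup.orderOf_dvd_natCard K hxK)
      rw [orderOf_eq_one_iff.mp this]
      exact one_mem _
    · exact h.mem_center_of_vp_eq (le_antisymm (not_lt.mp hlt') (vp_le h.le)) hxM hxt
  haveI : Group.IsSolvable Kb := by
    set φ : MulAut Kb := MulAut.conjNormal (π v)
    have hfix : ∀ x : Kb, φ x = x → x = 1 := by
      rintro ⟨_, k, hk, rfl⟩ hx
      have h1 : π (v * k * v⁻¹) = π k := by
        simpa [φ] using congrArg Subtype.val hx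
      set z := k⁻¹ * (v * k * v⁻¹)
      have hz : z ∈ Z := (QuotientGroup.eq (s := Z)).mp h1.symm
      have hzc : ∀ g : G, g * z = z * g := Subgroup.mem_center_iff.mp hz
      have hk1 : v * k * v⁻¹ = k * z := by simp [z]
      have hpow : ∀ n : ℕ, v ^ n * k * (v ^ n)⁻¹ = k * z ^ n := by
        intro n
        induction n with
        | zero => simp
        | succ n ih =>
          rw [pow_succ', mul_inv_rev, show v * v ^ n * k * ((v ^ n)⁻¹ * v⁻¹)
            = v * (v ^ n * k * (v ^ n)⁻¹) * v⁻¹ by group, ih, show v * (k * z ^ n) * v⁻¹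
            = v * k * (z ^ n * v⁻¹) by group, (Commute.pow_left (hzc v⁻¹).symm n).eq,
            ← mul_assoc, hk1, mul_assoc, pow_succ']
      have hzp : z ^ p = 1 := by
        have e := hpow p
        have hc : v ^ p * k = k * v ^ p := (Subgroup.mem_center_iff.mp hvpZ k).symm
        rw [hc, mul_inv_cancel_right] at e
        exact mul_eq_left.mp e.symm
      have hzK : z ∈ K :=
        K.mul_mem (inv_mem hk) ((inferInstance : K.Normal).conj_mem k hk v)
      have hz1 : z = 1 := orderOf_eq_one_iff.mp (Nat.eq_one_of_dvd_coprimes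
        (hp.coprime_iff_not_dvd.mpr (hK p hp hlt)) (orderOf_dvd_of_pow_eq_one hzp)
        (Subgroup.orderOf_dvd_natCard K hzK))
      rw [hz1, mul_one, mul_inv_eq_iff_eq_mul] at hk1
      refine Subtype.ext ((QuotientGroup.eq_one_iff k).mpr (hKM k hk ?_))
      rw [← h.cEq v hvM hvZ]
      exact mem_C.mpr hk1.symm
    by_cases hbot : φ = 1
    · have : Subsingleton Kb := ⟨fun x y => by
        rw [hfix x (by rw [hbot]; rfl), hfix y (by rw [hbot]; rfl)]⟩
      exact Group.isSolvable_of_comm fun x y => Subsingleton.elim _ _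
    · have hord : orderOf φ = p := by
        refine orderOf_eq_prime ?_ hbot
        rw [← map_pow, ← map_pow, show π (v ^ p) = 1 from (QuotientGroup.eq_one_iff _).mpr hvpZ,
          map_one]
      haveI := Cfsg.Agent.S0033.result φ hfix p hp hord
      infer_instance
  haveI : Group.IsSolvable Z :=
    Group.isSolvable_of_comm fun x y => Subtype.ext (Subgroup.mem_center_iff.mp y.2 x)
  haveI : Group.IsSolvable (Kb.comap π) :=
    Group.isSolvable_of_ker_le_range
      (Subgroup.inclusion (show Z ≤ Kb.comap π from fun x hx => by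
        rw [Subgroup.mem_comap, show π x = 1 from (QuotientGroup.eq_one_iff _).mpr hx]
        exact one_mem _))
      (π.subgroupComap Kb) (fun x hx => by
        have : (x : G) ∈ Z := (QuotientGroup.eq_one_iff _).mp (congrArg Subtype.val hx)
        exact ⟨⟨x, this⟩, Subtype.ext rfl⟩)
  haveI : Group.IsSolvable K :=
    Group.isSolvable_of_isSolvable_injective
      (Subgroup.inclusion_injective (show K ≤ Kb.comap π from Subgroup.le_comap_map _ _))
  haveI : Group.IsSolvable (G ⧸ K) := Group.isSolvable_of_comm fun x y => by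
    induction x using QuotientGroup.induction_on with
    | _ a => induction y using QuotientGroup.induction_on with
      | _ b =>
        rw [← QuotientGroup.mk_mul, ← QuotientGroup.mk_mul, QuotientGroup.eq]
        have hm : ⁅b⁻¹, a⁻¹⁆ ∈ K :=
          Subgroup.commutator_mem_commutator (Subgroup.mem_top _) (Subgroup.mem_top _)
        simpa [commutatorElement_def, mul_assoc] using hm
  exact Group.isSolvable_of_ker_le_range K.subtype (QuotientGroup.mk' K)
    (by rw [QuotientGroup.ker_mk', Subgroup.range_subtype])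

end CfsgLib.ClassSizesThree
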