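import Mathlib
import Cfsg.Agent.S0117
import Cfsg.Agent.Lib.ClassSizesThree.Basic
import Cfsg.Agent.Lib.ClassSizesThree.Action
import Cfsg.Agent.Lib.PSolvable.Core

/-!
A self-normalising Sylow `r`-subgroup (`r` odd) whose non-identity elements commute only with
`r`-elements has a normal complement.
-/

set_option autoImplicit false
set_option linter.unusedSectionVars false
set_option linter.style.haveILetI false

namespace CfsgLib.ClassSizesThree

universe u

theorem hasNormalPComplement_of_isolated {W : Type u} [Group W] [Finite W] {r : ℕ} [hr : Fact r.Prime]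
    (hr2 : r ≠ 2)
    (h1 : ∀ (t : ℕ), t.Prime → t ≠ r → ∀ c g : W, IsPEl t c → IsPEl r g → Commute c g →
      c ≠ 1 → g = 1)
    (h4 : ∀ (t : ℕ), t.Prime → t ≠ r → ∀ c g : W, IsPEl t c → IsPEl r g → c ≠ 1 →
      g * c * g⁻¹ ∈ Subgroup.zpowers c → g = 1)
    (R : Sylow r W) (hR1 : (R : Subgroup W) ≠ ⊥)
    (hR : Subgroup.normalizer ((R : Subgroup W) : Set W) ≤ (R : Subgroup W)) :
    Cfsg.HasNormalPComplement r W := by
  classical
  set A := CfsgLib.ZJ.zJ r (R : Subgroup W) with hA
  have hAR : A ≤ (R : Subgroup W) := CfsgLib.ZJ.zJ_le r _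
  obtain ⟨z₀, hz₀, hz₀1, -⟩ := CfsgLib.ZJ.zJ_ne_bot (G := W) (e := r) (p := r) (Or.inr rfl) R.2 hR1
  have hAc : ∀ x ∈ A, ∀ y ∈ A, Commute x y := fun x hx y hy =>
    (Subgroup.mem_centralizer_iff.mp hy.2 x hx.1)
  have hAp : IsPGroup r A := R.2.to_le hAR
  letI : CommGroup A := { (inferInstance : Group A) with
    mul_comm := fun x y => Subtype.ext (hAc x x.2 y y.2).eq }
  set H := Subgroup.normalizer (A : Set W)
  have hRH : (R : Subgroup W) ≤ H :=
    Subgroup.le_normalizer.trans (CfsgLib.ZJ.normalizer_le_normalizer_zJ r _)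
  -- subgroups of order prime to `r` act semiregularly
  have hsemi : ∀ S : Subgroup W, (hS : S ≤ H) → ∀ q : ℕ, q.Prime → q ≠ r → IsPGroup q S →
      Semi (A.normalizerMonoidHom.comp (Subgroup.inclusion hS)) ⊥ r := by
    intro S hS q hq hqr hSq
    haveI := Fact.mk hq
    refine ⟨hAp, fun w v hv => by rw [Subgroup.mem_bot.mp hv, map_one], fun w hw v hv => ?_,
      ?_⟩
    swap
    · intro e
      have h := Subgroup.mem_top (⟨z₀, hz₀⟩ : A)
      rw [← e, Subgroup.mem_bot] at h
      exact hz₀1 (congrArg Subtype.val h)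
    rw [Subgroup.mem_bot]
    by_contra hv1
    have hc : Commute (w : W) (v : W) := by
      have e : (w : W) * v * (w : W)⁻¹ = v := congrArg Subtype.val hv
      exact mul_inv_eq_iff_eq_mul.mp e
    exact hv1 (Subtype.ext (h1 q hq hqr _ _ (isPEl_of_isPGroup hSq w.2)
      (isPEl_of_isPGroup hAp v.2) hc fun e => hw (Subtype.ext e)))
  -- `R` is normal in `H`
  have hRn : H ≤ Subgroup.normalizer ((R : Subgroup W) : Set W) := by
    set D := Cfsg.pCore r H
    haveI hDn : D.Normal := CfsgLib.Fitting.pCore_normal r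
    have hDp : IsPGroup r D := CfsgLib.Fitting.pCore_isPGroup r
    let RH : Sylow r H := R.subtype hRH
    suffices hle : (RH : Subgroup H) ≤ D by
      have he : (RH : Subgroup H) = D := (RH.3 hDp hle).symm
      haveI : ((R : Subgroup W).subgroupOf H).Normal := by
        rw [show (R : Subgroup W).subgroupOf H = D from he]
        infer_instance
      exact (Subgroup.normal_subgroupOf_iff_le_normalizer hRH).mp inferInstance
    by_contra hle
    set π := QuotientGroup.mk' D
    have hπ : Function.Surjective π := QuotientGroup.mk'_surjective D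
    have hrX : r ∣ Nat.card (H ⧸ D) := by
      by_contra hnd
      refine hle fun x hx => (QuotientGroup.eq_one_iff x).mp ?_
      obtain ⟨j, hj⟩ := isPEl_of_isPGroup RH.2 hx
      refine orderOf_eq_one_iff.mp (Nat.eq_one_of_dvd_coprimes
        ((hr.out.coprime_iff_not_dvd.mpr hnd).pow_left j) ?_ (orderOf_dvd_natCard (π x)))
      exact hj ▸ orderOf_map_dvd π x
    haveI : Nontrivial (H ⧸ D) := by
      rw [← Finite.one_lt_card_iff_nontrivial]
      exact hr.out.one_lt.trans_le (Nat.le_of_dvd Nat.card_pos hrX)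
    obtain ⟨S⟩ : Nonempty (Sylow 2 H) := inferInstance
    have hSW : IsPGroup 2 ((S : Subgroup H).map H.subtype) := S.2.map _
    have hinj : Function.Injective (π.comp (S : Subgroup H).subtype) := by
      rw [← MonoidHom.ker_eq_bot_iff, eq_bot_iff]
      intro x hx
      have hxD : (x : H) ∈ D := (QuotientGroup.eq_one_iff _).mp hx
      obtain ⟨i, hi⟩ := isPEl_of_isPGroup S.2 x.2
      obtain ⟨j, hj⟩ := isPEl_of_isPGroup hDp hxD
      refine Subgroup.mem_bot.mpr (Subtype.ext (orderOf_eq_one_iff.mp (Nat.eq_one_of_dvd_coprimes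
        (((Nat.coprime_primes Nat.prime_two hr.out).mpr hr2.symm).pow i j)
        (hi ▸ dvd_rfl) (hj ▸ dvd_rfl))))
    let S' : Sylow 2 (H ⧸ D) := S.mapSurjective hπ
    have hS' : (S' : Subgroup (H ⧸ D)) = (π.comp (S : Subgroup H).subtype).range := by
      rw [MonoidHom.range_comp, Subgroup.range_subtype]
      rfl
    let e : (S : Subgroup H) ≃* (S' : Subgroup (H ⧸ D)) :=
      (MonoidHom.ofInjective hinj).trans (MulEquiv.subgroupCongr hS'.symm)
    let e' : (S : Subgroup H) ≃* ((S : Subgroup H).map H.subtype) :=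
      (S : Subgroup H).equivMapOfInjective _ H.subtype_injective
    have hcq : IsCyclic S' ∨
        ∃ n : ℕ, Nonempty ((S' : Subgroup (H ⧸ D)) ≃* QuaternionGroup (2 ^ n)) := by
      rcases (hsemi _ (Subgroup.map_subtype_le _) 2 Nat.prime_two hr2.symm
        hSW).cyclic_or_quaternion hr2.symm ⊤ (hSW.of_equiv Subgroup.topEquiv.symm) with
        hc | ⟨-, n, ⟨f⟩⟩
      · refine Or.inl ?_
        exact ((e.symm.trans (e'.trans Subgroup.topEquiv.symm)).isCyclic).mpr hc
      · exact Or.inr ⟨n, ⟨(e.symm.trans (e'.trans Subgroup.topEquiv.symm)).trans f⟩⟩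
    obtain ⟨q, hq, K, hK, hK1, hKp⟩ := exists_normal_pgroup_of_sylow_two S' hcq
    haveI := hq
    haveI := hK
    by_cases hqr : q = r
    · subst hqr
      have hcp : IsPGroup q (K.comap π) :=
        hKp.comap_of_ker_isPGroup π (by rw [QuotientGroup.ker_mk']; exact hDp)
      have hle' := CfsgLib.Fitting.le_pCore (hK.comap π) hcp
      refine hK1 (eq_bot_iff.mpr fun w hw => ?_)
      obtain ⟨x, rfl⟩ := hπ w
      exact Subgroup.mem_bot.mpr ((QuotientGroup.eq_one_iff x).mpr (hle' hw))
    set U := K.comap π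
    obtain ⟨P⟩ : Nonempty (Sylow q U) := inferInstance
    have hsup := Sylow.normalizer_sup_eq_top P
    set P₁ := (P : Subgroup U).map U.subtype
    set N₁ := Subgroup.normalizer (P₁ : Set H)
    have hrN : r ∣ Nat.card N₁ := by
      have hsur : Function.Surjective
          (((QuotientGroup.mk' K).comp π).comp N₁.subtype) := by
        intro y
        obtain ⟨y', rfl⟩ := QuotientGroup.mk'_surjective K y
        obtain ⟨x, rfl⟩ := hπ y'
        obtain ⟨n, hn, u, hu, rfl⟩ := Subgroup.mem_sup_of_normal_right.mp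
          (hsup.symm ▸ Subgroup.mem_top x)
        refine ⟨⟨n, hn⟩, ?_⟩
        show QuotientGroup.mk' K (π n) = QuotientGroup.mk' K (π (n * u))
        rw [map_mul, map_mul, show QuotientGroup.mk' K (π u) = 1 from
          (QuotientGroup.eq_one_iff _).mpr hu, mul_one]
      rw [← Subgroup.card_mul_index K] at hrX
      refine dvd_trans ?_ (Subgroup.card_dvd_of_surjective _ hsur)
      rw [← Subgroup.index_eq_card]
      exact (hr.out.dvd_mul.mp hrX).resolve_left (not_dvd_card_of_isPGroup hKp hqr)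
    obtain ⟨g, hg⟩ := exists_prime_orderOf_dvd_card' r hrN
    have hqU : q ∣ Nat.card U := by
      haveI : Nontrivial K := (Subgroup.nontrivial_iff_ne_bot K).mpr hK1
      obtain ⟨k, hk0, hk⟩ := hKp.nontrivial_iff_card.mp inferInstance
      exact (dvd_pow_self q hk0.ne').trans (hk ▸ Subgroup.card_dvd_of_surjective
        (π.subgroupComap K) (fun ⟨y, hy⟩ => by
          obtain ⟨x, rfl⟩ := hπ y
          exact ⟨⟨x, hy⟩, rfl⟩))
    set P₂ := P₁.map H.subtype
    have hP₂ : IsPGroup q P₂ := (P.2.map _).map _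
    haveI : Nontrivial P₂ := by
      rw [Subgroup.nontrivial_iff_ne_bot, Ne,
        Subgroup.map_eq_bot_iff_of_injective _ H.subtype_injective,
        Subgroup.map_eq_bot_iff_of_injective _ U.subtype_injective]
      exact P.ne_bot_of_dvd_card hqU
    haveI := hP₂.center_nontrivial
    obtain ⟨k, hk0, hk⟩ :=
      (hP₂.to_subgroup (Subgroup.center P₂)).nontrivial_iff_card.mp inferInstance
    obtain ⟨z, hz⟩ := exists_prime_orderOf_dvd_card' (G := Subgroup.center P₂) q
      (hk ▸ dvd_pow_self q hk0.ne')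
    have hzo : orderOf (z : P₂) = q := by rw [Subgroup.orderOf_coe, hz]
    obtain ⟨zH, hzP, hzH⟩ := (z : P₂).2
    have hconj : ((g : H) : W) * ((z : P₂) : W) * ((g : H) : W)⁻¹ ∈ P₂ := by
      rw [← hzH]
      exact ⟨(g : H) * zH * (g : H)⁻¹, (Subgroup.mem_normalizer_iff.mp g.2 zH).mp hzP, rfl⟩
    set y : P₂ := ⟨_, hconj⟩
    have hyq : y ^ q = 1 := by
      refine Subtype.ext ?_
      show (((g : H) : W) * ((z : P₂) : W) * ((g : H) : W)⁻¹) ^ q = 1
      rw [conj_pow, ← SubgroupClass.coe_pow, ← hzo, pow_orderOf_eq_one, Subgroup.coe_one, mul_one,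
        mul_inv_cancel]
    have hmem := (hsemi P₂ (Subgroup.map_subtype_le _) q hq.out hqr hP₂).mem_zpowers_of_commute
      hqr (x := (z : P₂)) (y := y) (by rw [← hzo, pow_orderOf_eq_one])
      (fun e => hq.out.ne_one (by rw [← hzo, e, orderOf_one])) hyq
      (Subgroup.mem_center_iff.mp z.2 y).symm
    obtain ⟨i, hi⟩ := hmem
    have hgW : orderOf ((g : H) : W) = r := by rw [Subgroup.orderOf_coe, Subgroup.orderOf_coe, hg]
    have hg1 := h4 q hq.out hqr ((z : P₂) : W) ((g : H) : W)
      (isPEl_of_isPGroup hP₂ (z : P₂).2) ⟨1, by rw [pow_one, hgW]⟩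
      (fun e => hq.out.ne_one (by rw [← hzo, ← Subgroup.orderOf_coe, e, orderOf_one]))
      ⟨i, by simpa [y] using congrArg Subtype.val hi⟩
    rw [hg1, orderOf_one] at hgW
    exact hr.out.ne_one hgW.symm
  -- transfer
  rw [Cfsg.Agent.S0117.result hr2 R, CfsgLib.ZJ.centerThompsonOf_eq]
  change Cfsg.HasNormalPComplement r H
  refine ⟨R.subtype hRH, ⊥, inferInstance, ?_⟩
  rw [show ((R.subtype hRH : Sylow r H) : Subgroup H) = ⊤ from
    Subgroup.subgroupOf_eq_top.mpr (hRn.trans hR)]
  exact Subgroup.isComplement'_bot_top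

end CfsgLib.ClassSizesThree
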