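import Mathlib
import Cfsg.Agent.S0058
import Cfsg.Agent.Lib.CaminaHerzog.Operators
import Cfsg.Agent.Lib.ClassSizesThree.Cover
import Cfsg.Agent.Lib.ClassSizesThree.Local

/-!
An abelian TI centraliser `M` and a prime `r` outside it such that all other non-central elements
are `r`-elements modulo the centre: such a group is solvable.
-/

set_option autoImplicit false
set_option linter.unusedSectionVars false
set_option linter.style.haveILetI false

namespace CfsgLib.ClassSizesThree

/-- Only one prime divides a group semiregular on groups for two primes, if one of these primes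
divides it. -/
theorem Semi.eq_one_of_two {W V V' : Type*} [Group W] [Finite W] [CommGroup V] [Finite V]
    [CommGroup V'] [Finite V'] {φ : W →* MulAut V} {φ' : W →* MulAut V'} {Z0 : Subgroup V}
    {Z1 : Subgroup V'} {p s : ℕ} [Fact p.Prime] [hs : Fact s.Prime] (h : Semi φ Z0 p)
    (h' : Semi φ' Z1 s) (hsp : s ≠ p) (hsW : s ∣ Nat.card W) {g : W} {m : ℕ} (hm : m.Prime)
    (hms : m ≠ s) (hg : g ^ m = 1) : g = 1 := by
  by_contra hg1
  haveI := Fact.mk hm
  obtain ⟨U, hU, hU1, hUs⟩ := h'.exists_normal hsW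
  haveI : Nontrivial U := (Subgroup.nontrivial_iff_ne_bot U).mpr hU1
  haveI := hUs.center_nontrivial
  obtain ⟨k, hk0, hk⟩ :=
    (hUs.to_subgroup (Subgroup.center U)).nontrivial_iff_card.mp inferInstance
  obtain ⟨z, hz⟩ := exists_prime_orderOf_dvd_card' (G := Subgroup.center U) s
    (hk ▸ dvd_pow_self s hk0.ne')
  have hzo : orderOf ((z : U) : W) = s := by rw [Subgroup.orderOf_coe, Subgroup.orderOf_coe, hz]
  have hzs : ((z : U) : W) ^ s = 1 := by rw [← hzo, pow_orderOf_eq_one]
  have hz1 : ((z : U) : W) ≠ 1 := fun e => hs.out.ne_one (by rw [← hzo, e, orderOf_one])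
  have hconj : g * ((z : U) : W) * g⁻¹ ∈ U := hU.conj_mem _ (z : U).2 g
  have hc : Commute ((z : U) : W) (g * ((z : U) : W) * g⁻¹) :=
    congrArg Subtype.val (Subgroup.mem_center_iff.mp z.2 ⟨_, hconj⟩).symm
  have hmem := h.mem_zpowers_of_commute hsp hzs hz1 (y := g * ((z : U) : W) * g⁻¹)
    (by rw [conj_pow, hzs, mul_one, mul_inv_cancel]) hc
  have hcom := h.commute_of_normalizes hsp hm hzs hz1 hg hg1 hmem
  refine hz1 (h'.eq_one_of_normalizes (H := Subgroup.zpowers g) ?_ ?_ ?_
    (IsPGroup.of_card (n := 1) (by rw [Nat.card_zpowers, hzo, pow_one])))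
  · rw [Nat.card_zpowers, orderOf_eq_prime hg hg1]
    exact fun hd => hms ((Nat.prime_dvd_prime_iff_eq hs.out hm).mp hd).symm
  · exact fun e => hg1 (Subgroup.mem_bot.mp (e ▸ Subgroup.mem_zpowers g))
  · rw [Subgroup.mem_normalizer_iff_map_conj_eq, MonoidHom.map_zpowers]
    show Subgroup.zpowers (((z : U) : W) * g * ((z : U) : W)⁻¹) = Subgroup.zpowers g
    rw [← hcom.eq, mul_inv_cancel_right]

variable {G : Type*} [Group G] [Finite G]

/-- The same for sections acting by conjugation. -/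
theorem ConjSemi.eq_of_dvd {N K Q Q' Z Z' : Subgroup G} {p s m : ℕ} [Fact p.Prime] [Fact s.Prime]
    (h : ConjSemi N K Q Z p) (h' : ConjSemi N K Q' Z' s) (hsp : s ≠ p) (hs : s ∣ K.relIndex N)
    (hm : m.Prime) (hmd : m ∣ K.relIndex N) : m = s := by
  by_contra hms
  haveI := Fact.mk hm
  haveI := h.normal
  letI : CommGroup Q := { (inferInstance : Group Q) with mul_comm := h.comm.is_comm.comm }
  letI : CommGroup Q' := { (inferInstance : Group Q') with mul_comm := h'.comm.is_comm.comm }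
  obtain ⟨φ, hφ, -⟩ := h.exists_semi
  obtain ⟨φ', hφ', -⟩ := h'.exists_semi
  obtain ⟨g, hg⟩ := exists_prime_orderOf_dvd_card' m (card_quotient_subgroupOf N K ▸ hmd)
  have := hφ.eq_one_of_two hφ' hsp (card_quotient_subgroupOf N K ▸ hs) hm hms
    (g := g) (by rw [← hg, pow_orderOf_eq_one])
  rw [this, orderOf_one] at hg
  exact hm.ne_one hg.symm

/-- Elements of prime power order lift. -/
theorem exists_lift_pEl {t : ℕ} [ht : Fact t.Prime] {x : G ⧸ Subgroup.center G} (hx : IsPEl t x) :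
    ∃ g : G, (g : G ⧸ Subgroup.center G) = x ∧ IsPEl t g := by
  obtain ⟨y, rfl⟩ := QuotientGroup.mk_surjective x
  obtain ⟨i, hi⟩ := hx
  obtain ⟨k, m, hm, hn⟩ :=
    Nat.exists_eq_pow_mul_and_not_dvd (orderOf_pos y).ne' t ht.out.ne_one
  obtain ⟨l, hl⟩ := exists_pow_eq_self_of_coprime (x := (y : G ⧸ Subgroup.center G)) (n := m)
    (by rw [hi]; exact ((ht.out.coprime_iff_not_dvd.mpr hm).symm).pow_right i)
  refine ⟨(y ^ m) ^ l, by rw [QuotientGroup.mk_pow, QuotientGroup.mk_pow, hl], ?_⟩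
  refine IsPEl.of_pow (j := k) ?_
  rw [← pow_mul, ← pow_mul, show m * (l * t ^ k) = t ^ k * m * l by ring, pow_mul, ← hn,
    pow_orderOf_eq_one, one_pow]

/-- `M` and the prime `r`. -/
structure Isolated (M : Subgroup G) (r : ℕ) : Prop where
  ti : TI M
  cov : ∀ g : G, g ∉ Subgroup.center G → (∃ h : G, h * g * h⁻¹ ∈ M) ∨
    ∀ t : ℕ, t.Prime → t ≠ r → ∀ v ∈ C g, IsPEl t v → v ∈ Subgroup.center G
  rM : vp r M = vp r (Subgroup.center G)

variable {M : Subgroup G} {r : ℕ} [hr : Fact r.Prime]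

theorem Isolated.exists_conj_mem (h : Isolated M r) {t : ℕ} [Fact t.Prime] (htr : t ≠ r) {e : G}
    (he : IsPEl t e) (heZ : e ∉ Subgroup.center G) : ∃ k : G, k * e * k⁻¹ ∈ M :=
  (h.cov e heZ).resolve_right fun hall => heZ (hall t Fact.out htr e (self_mem_C e) he)

theorem Isolated.mem_center_of_commute (h : Isolated M r) {t : ℕ} [Fact t.Prime] (htr : t ≠ r)
    {e v : G} (he : IsPEl t e) (heZ : e ∉ Subgroup.center G) (hv : IsPEl r v)
    (hc : Commute e v) : v ∈ Subgroup.center G := by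
  obtain ⟨k, hk⟩ := h.exists_conj_mem htr he heZ
  have hkv : k * v * k⁻¹ ∈ M := by
    rw [← h.ti.cEq _ hk fun hz => heZ (mem_center_of_conj hz), mem_C]
    show k * v * k⁻¹ * (k * e * k⁻¹) = k * e * k⁻¹ * (k * v * k⁻¹)
    calc k * v * k⁻¹ * (k * e * k⁻¹) = k * (v * e) * k⁻¹ := by group
      _ = k * (e * v) * k⁻¹ := by rw [hc.eq]
      _ = k * e * k⁻¹ * (k * v * k⁻¹) := by group
  exact mem_center_of_conj (h.ti.mem_center_of_vp_eq h.rM hkv (hv.conj k))

/-- In `G/Z`: commuting elements, one an `r`-element and the other of order prime to `r`. -/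
theorem Isolated.eq_one_of_commute (h : Isolated M r) {t : ℕ} (ht : t.Prime) (htr : t ≠ r)
    {c g : G ⧸ Subgroup.center G} (hc : IsPEl t c) (hg : IsPEl r g) (hcg : Commute c g)
    (hc1 : c ≠ 1) : g = 1 := by
  haveI := Fact.mk ht
  obtain ⟨e, rfl, he⟩ := exists_lift_pEl hc
  obtain ⟨v, rfl, hv⟩ := exists_lift_pEl hg
  rw [QuotientGroup.eq_one_iff]
  rw [Ne, QuotientGroup.eq_one_iff] at hc1
  refine h.mem_center_of_commute htr he hc1 hv ?_
  set z := (v * e)⁻¹ * (e * v)
  have hz : z ∈ Subgroup.center G := QuotientGroup.eq.mp (by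
    rw [QuotientGroup.mk_mul, QuotientGroup.mk_mul]; exact hcg.eq.symm)
  have hzc : ∀ g : G, g * z = z * g := Subgroup.mem_center_iff.mp hz
  have hvz : e * v * e⁻¹ = v * z := by
    rw [show e * v = v * e * z from (mul_inv_cancel_left (v * e) (e * v)).symm, mul_assoc (v * e),
      ← hzc e⁻¹]
    group
  obtain ⟨i, hi⟩ := he
  obtain ⟨j, hj⟩ := hv
  have h1 : z ^ r ^ j = 1 := by
    have h2 : (e * v * e⁻¹) ^ r ^ j = 1 := by
      rw [conj_pow, ← hj, pow_orderOf_eq_one, mul_one, mul_inv_cancel]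
    rw [hvz, (show Commute v z from hzc v).mul_pow, ← hj, pow_orderOf_eq_one, one_mul] at h2
    rw [← hj]
    exact h2
  have h2 : z ^ t ^ i = 1 := by
    have hpow : ∀ n : ℕ, e ^ n * v * (e ^ n)⁻¹ = v * z ^ n := by
      intro n
      induction n with
      | zero => simp
      | succ n ih =>
        rw [pow_succ', mul_inv_rev, show e * e ^ n * v * ((e ^ n)⁻¹ * e⁻¹)
          = e * (e ^ n * v * (e ^ n)⁻¹) * e⁻¹ by group, ih, show e * (v * z ^ n) * e⁻¹
          = e * v * (z ^ n * e⁻¹) by group, (Commute.pow_left (hzc e⁻¹).symm n).eq,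
          ← mul_assoc, hvz, mul_assoc, pow_succ']
    have h3 := hpow (orderOf e)
    rw [pow_orderOf_eq_one, one_mul, inv_one, mul_one] at h3
    rw [← hi]
    exact mul_eq_left.mp h3.symm
  have hz1 : z = 1 := orderOf_eq_one_iff.mp (Nat.eq_one_of_dvd_coprimes
    (((Nat.coprime_primes hr.out ht).mpr htr.symm).pow j i) (orderOf_dvd_of_pow_eq_one h1)
    (orderOf_dvd_of_pow_eq_one h2))
  exact (inv_mul_eq_one.mp hz1).symm

/-- The normaliser of `M` has `r`-elements only in the centre. -/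
theorem Isolated.mem_center_of_mem_normalizer (h : Isolated M r) {p s : ℕ} [Fact p.Prime]
    [hs : Fact s.Prime] (hsp : s ≠ p) (hrs : r ≠ s) (hp : Part M p) (hMs : Part M s)
    (hlt : vp s M < (Nat.card G).factorization s) {v : G}
    (hv : v ∈ Subgroup.normalizer (M : Set G)) (hvr : IsPEl r v) : v ∈ Subgroup.center G := by
  obtain ⟨Q, hQ⟩ := hp.exists_conjSemi
  obtain ⟨Q', hQ'⟩ := hMs.exists_conjSemi
  have hnd : ¬ r ∣ M.relIndex (Subgroup.normalizer (M : Set G)) := fun hd =>
    hrs (hQ.eq_of_dvd hQ' hsp (hMs.dvd_relIndex hlt) hr.out hd)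
  haveI : (M.subgroupOf (Subgroup.normalizer (M : Set G))).Normal :=
    Subgroup.normal_subgroupOf_of_le_normalizer le_rfl
  have h1 := Subgroup.pow_index_mem (M.subgroupOf (Subgroup.normalizer (M : Set G))) ⟨v, hv⟩
  rw [Subgroup.mem_subgroupOf] at h1
  obtain ⟨j, hj⟩ := id hvr
  obtain ⟨i, hi⟩ := exists_pow_eq_self_of_coprime (x := v)
    (n := M.relIndex (Subgroup.normalizer (M : Set G)))
    (by rw [hj]; exact ((hr.out.coprime_iff_not_dvd.mpr hnd).symm).pow_right j)
  exact h.ti.mem_center_of_vp_eq h.rM (hi ▸ M.pow_mem h1 i) hvr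

/-- A Sylow `s`-subgroup inside the normaliser, and a subgroup of `G/Z` of type `(s, s)`. -/
theorem Isolated.exists_rank_two (h : Isolated M r) {s : ℕ} [hs : Fact s.Prime] (hrs : r ≠ s)
    (hsi : s ∣ (Subgroup.center G).index) (hlt : vp s M < (Nat.card G).factorization s) :
    vp s (Subgroup.normalizer (M : Set G)) = (Nat.card G).factorization s ∧
      ∃ E : Subgroup (G ⧸ Subgroup.center G), IsMulCommutative E ∧ ¬ IsCyclic E ∧
        IsPGroup s E := by
  classical
  set Z := Subgroup.center G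
  set π := QuotientGroup.mk' Z
  obtain ⟨S₀⟩ : Nonempty (Sylow s G) := inferInstance
  haveI : Nontrivial ((S₀ : Subgroup G).map π) := by
    rw [Subgroup.nontrivial_iff_ne_bot]
    intro e
    obtain ⟨v, hvs, hvZ⟩ := exists_pEl_notMem (p := s) hsi
    have hle : (S₀ : Subgroup G) ≤ Z := fun x hx => (QuotientGroup.eq_one_iff x).mp
      (Subgroup.mem_bot.mp (e ▸ Subgroup.mem_map_of_mem π hx))
    exact S₀.not_dvd_index (hsi.trans (Subgroup.index_dvd_of_le hle))
  haveI := (S₀.2.map π).center_nontrivial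
  obtain ⟨w, hw⟩ := exists_ne (1 : Subgroup.center ((S₀ : Subgroup G).map π))
  obtain ⟨y₀, hy₀S, hy₀w⟩ := (w : (S₀ : Subgroup G).map π).2
  have hy₀Z : y₀ ∉ Z := fun hz => hw (Subtype.ext (Subtype.ext (by
    rw [← hy₀w]; exact (QuotientGroup.eq_one_iff y₀).mpr hz)))
  obtain ⟨k, hk⟩ := h.exists_conj_mem hrs.symm (isPEl_of_isPGroup S₀.2 hy₀S) hy₀Z
  set S := (S₀ : Subgroup G).map (MulAut.conj k).toMonoidHom
  have hSs : IsPGroup s S := S₀.2.map _
  set y₁ := k * y₀ * k⁻¹
  have hy₁Z : y₁ ∉ Z := fun hz => hy₀Z (mem_center_of_conj hz)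
  have hy₁ : ∀ g ∈ S, Commute (π g) (π y₁) := by
    rintro _ ⟨g, hg, rfl⟩
    have e : Commute (π g) (π y₀) := by
      have := congrArg Subtype.val
        (Subgroup.mem_center_iff.mp w.2 ⟨π g, Subgroup.mem_map_of_mem π hg⟩)
      simp only [Subgroup.coe_mul] at this
      rwa [← hy₀w] at this
    have e' := e.map (MulAut.conj (π k)).toMonoidHom
    simpa [y₁, map_mul, map_inv] using e'
  have hy₁S : y₁ ∈ S := ⟨y₀, hy₀S, rfl⟩
  have hSN : S ≤ Subgroup.normalizer (M : Set G) := by
    intro g hg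
    refine h.ti.mem_normalizer hk hy₁Z ?_
    have hz : y₁⁻¹ * (g * y₁ * g⁻¹) ∈ Z := (QuotientGroup.eq_one_iff _).mp (by
      show π (y₁⁻¹ * (g * y₁ * g⁻¹)) = 1
      rw [map_mul, map_mul, map_mul, map_inv, map_inv, (hy₁ g hg).eq, mul_inv_cancel_right,
        inv_mul_cancel])
    have := M.mul_mem hk (h.ti.le hz)
    rwa [mul_inv_cancel_left] at this
  have hScard : Nat.card S = s ^ (Nat.card G).factorization s := by
    rw [Subgroup.card_map_of_injective (MulAut.conj k).injective, S₀.card_eq_multiplicity]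
  have hfull : vp s (Subgroup.normalizer (M : Set G)) = (Nat.card G).factorization s := by
    refine le_antisymm ((Nat.factorization_le_iff_dvd Nat.card_pos.ne' Nat.card_pos.ne').mpr
      (Subgroup.card_subgroup_dvd_card _) s) ?_
    have := card_le_of_isPGroup hSs hSN
    rw [hScard] at this
    exact (Nat.pow_le_pow_iff_right hs.out.one_lt).mp this
  refine ⟨hfull, ?_⟩
  obtain ⟨g₁, hg₁S, hg₁M⟩ : ∃ g ∈ S, g ∉ M := by
    by_contra hcon
    push Not at hcon
    have := card_le_of_isPGroup hSs hcon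
    rw [hScard] at this
    exact absurd ((Nat.pow_le_pow_iff_right hs.out.one_lt).mp this) (not_le.mpr hlt)
  obtain ⟨g, hg₁g, hgs, hgM, hgsM⟩ := exists_pow_step (isPEl_of_isPGroup hSs hg₁S) hg₁M
  have hgS : g ∈ S := Subgroup.zpowers_le.mpr hg₁S hg₁g
  have hgZ : g ^ s ∈ Z := by
    by_contra hz
    exact hgM (h.ti.cEq _ hgsM hz ▸ mem_C.mpr (Commute.self_pow g s))
  obtain ⟨y, hy₁y, hys, hyZ, hyspZ⟩ := exists_pow_step (isPEl_of_isPGroup hSs hy₁S) hy₁Z
  have hyM : y ∈ M := Subgroup.zpowers_le.mpr hk hy₁y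
  have hcomm : Commute (π g) (π y) := by
    obtain ⟨i, rfl⟩ := hy₁y
    show Commute (π g) (π (y₁ ^ i))
    rw [map_zpow]
    exact (hy₁ g hgS).zpow_right i
  set E := Subgroup.closure ({π y, π g} : Set (G ⧸ Z))
  have hEc : IsMulCommutative E := Subgroup.isMulCommutative_closure (by
    rintro a (rfl | rfl) b (rfl | rfl)
    exacts [rfl, hcomm.eq.symm, hcomm.eq, rfl])
  have hpow : ∀ x ∈ E, x ^ s = 1 := by
    intro x hx
    have hyp : π y ^ s = 1 := by rw [← map_pow]; exact (QuotientGroup.eq_one_iff _).mpr hyspZ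
    have hgp : π g ^ s = 1 := by rw [← map_pow]; exact (QuotientGroup.eq_one_iff _).mpr hgZ
    induction hx using Subgroup.closure_induction with
    | mem x hx => rcases hx with rfl | rfl; exacts [hyp, hgp]
    | one => exact one_pow s
    | mul a b ha hb iha ihb =>
      rw [(show Commute a b from congrArg Subtype.val
        (hEc.is_comm.comm ⟨a, ha⟩ ⟨b, hb⟩)).mul_pow, iha, ihb, mul_one]
    | inv a _ iha => rw [inv_pow, iha, inv_one]
  refine ⟨E, hEc, fun hcyc => ?_, fun x => ⟨1, Subtype.ext (by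
    rw [SubgroupClass.coe_pow, Subgroup.coe_one, pow_one]; exact hpow x x.2)⟩⟩
  have hexp : Monoid.exponent E ∣ s := Monoid.exponent_dvd_of_forall_pow_eq_one fun x =>
    Subtype.ext (by rw [SubgroupClass.coe_pow, Subgroup.coe_one]; exact hpow x x.2)
  rw [IsCyclic.exponent_eq_card] at hexp
  have hyo : orderOf (π y) = s := orderOf_eq_prime
    (by rw [← map_pow]; exact (QuotientGroup.eq_one_iff _).mpr hyspZ)
    (fun e => hyZ ((QuotientGroup.eq_one_iff y).mp e))
  have hEy : Subgroup.zpowers (π y) = E := Subgroup.eq_of_le_of_card_ge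
    (Subgroup.zpowers_le.mpr (Subgroup.subset_closure (Set.mem_insert _ _)))
    (by rw [Nat.card_zpowers, hyo]; exact Nat.le_of_dvd hs.out.pos hexp)
  obtain ⟨i, hi⟩ : π g ∈ Subgroup.zpowers (π y) :=
    hEy.symm ▸ Subgroup.subset_closure (Set.mem_insert_of_mem _ rfl)
  refine hgM ?_
  have hz : (y ^ i)⁻¹ * g ∈ Z := QuotientGroup.eq.mp (show π (y ^ i) = π g by rw [map_zpow]; exact hi)
  have := M.mul_mem (M.zpow_mem hyM i) (h.ti.le hz)
  rwa [mul_inv_cancel_left] at this

/-- The isolated case is impossible in a nonsolvable group. -/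
theorem Isolated.isSolvable (h : Isolated M r) {p s : ℕ} [Fact p.Prime] [hs : Fact s.Prime]
    (hsp : s ≠ p) (hrs : r ≠ s) (hp : Part M p) (hMs : Part M s)
    (hlt : vp s M < (Nat.card G).factorization s) (hsi : s ∣ (Subgroup.center G).index)
    (hri : r ∣ (Subgroup.center G).index)
    (hfull : ∀ t : ℕ, t.Prime → t ≠ r → t ≠ s → vp t M = (Nat.card G).factorization t) :
    Group.IsSolvable G := by
  classical
  by_contra hns
  set Z := Subgroup.center G
  set N := Subgroup.normalizer (M : Set G) with hN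
  set π := QuotientGroup.mk' Z
  have hπ : Function.Surjective π := QuotientGroup.mk'_surjective Z
  obtain ⟨hNs, E, hEc, hEcyc, hEs⟩ := h.exists_rank_two hrs hsi hlt
  have hNr : ∀ v ∈ N, IsPEl r v → v ∈ Z := fun v =>
    h.mem_center_of_mem_normalizer hsp hrs hp hMs hlt
  have hE : ∀ K : Subgroup (G ⧸ Z), IsPGroup r K → E ≤ Subgroup.normalizer (K : Set (G ⧸ Z)) →
      K = ⊥ := by
    intro K hK hEK
    have e := Cfsg.Agent.S0058.result E K hEcyc hEK (by
      obtain ⟨i, hi⟩ := IsPGroup.iff_card.mp hEs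
      obtain ⟨j, hj⟩ := IsPGroup.iff_card.mp hK
      rw [hi, hj]
      exact ((Nat.coprime_primes hs.out hr.out).mpr hrs.symm).pow i j)
    rw [← e, eq_bot_iff]
    refine iSup₂_le fun a ha v hv => ?_
    exact Subgroup.mem_bot.mpr (h.eq_one_of_commute hs.out hrs.symm (isPEl_of_isPGroup hEs ha.1)
      (isPEl_of_isPGroup hK hv.1) (Subgroup.mem_centralizer_singleton_iff.mp hv.2).symm ha.2)
  have h4 : ∀ t : ℕ, t.Prime → t ≠ r → ∀ c g : G ⧸ Z, IsPEl t c → IsPEl r g → c ≠ 1 →
      g * c * g⁻¹ ∈ Subgroup.zpowers c → g = 1 := by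
    intro t ht htr c' g' hc hg hc1 ⟨i, hi⟩
    haveI := Fact.mk ht
    obtain ⟨c, rfl, hct⟩ := exists_lift_pEl hc
    obtain ⟨g, rfl, hgr⟩ := exists_lift_pEl hg
    rw [QuotientGroup.eq_one_iff]
    rw [Ne, QuotientGroup.eq_one_iff] at hc1
    obtain ⟨k, hk⟩ := h.exists_conj_mem htr hct hc1
    have hz : (c ^ i)⁻¹ * (g * c * g⁻¹) ∈ Z := QuotientGroup.eq.mp (by
      rw [QuotientGroup.mk_zpow, QuotientGroup.mk_mul, QuotientGroup.mk_mul, QuotientGroup.mk_inv]
      exact hi)
    have hM : k * (g * c * g⁻¹) * k⁻¹ ∈ M := by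
      have e := M.mul_mem (M.zpow_mem hk i) (h.ti.le hz)
      convert e using 1
      rw [conj_zpow, mul_assoc (k * c ^ i) k⁻¹, Subgroup.mem_center_iff.mp hz k⁻¹]
      group
    have hkg : k * g * k⁻¹ ∈ N := h.ti.mem_normalizer hk (fun hz' => hc1 (mem_center_of_conj hz'))
      (by simpa [mul_assoc] using hM)
    exact mem_center_of_conj (hNr _ hkg (hgr.conj k))
  have hcases : ∀ x : G ⧸ Z, x ≠ 1 → IsPEl r x ∨ ∃ k, k * x * k⁻¹ ∈ M.map π := by
    intro x hx
    obtain ⟨g, rfl⟩ := hπ x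
    rcases h.cov g (fun hz => hx ((QuotientGroup.eq_one_iff g).mpr hz)) with ⟨k, hk⟩ | hall
    · exact Or.inr ⟨π k, k * g * k⁻¹, hk, by simp⟩
    · refine Or.inl ⟨_, Nat.eq_prime_pow_of_unique_prime_dvd (orderOf_pos _).ne' fun {t} ht htd => ?_⟩
      by_contra htr
      haveI := Fact.mk ht
      have hd : t ∣ Nat.card (Subgroup.zpowers (π g)) := by rwa [Nat.card_zpowers]
      obtain ⟨⟨u, hu⟩, hu'⟩ := exists_prime_orderOf_dvd_card' t hd
      rw [Subgroup.orderOf_mk] at hu'
      obtain ⟨i, rfl⟩ := hu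
      obtain ⟨l, hl, hlt'⟩ := exists_lift_pEl (t := t) (x := π g ^ i) ⟨1, by rw [pow_one]; exact hu'⟩
      have hlC : l ∈ C g := by
        have hz : (g ^ i)⁻¹ * l ∈ Z := QuotientGroup.eq.mp (by
          rw [hl, QuotientGroup.mk_zpow]; rfl)
        have := (C g).mul_mem ((C g).zpow_mem (self_mem_C g) i) (center_le_C g hz)
        rwa [mul_inv_cancel_left] at this
      have := hall t ht htr l hlC hlt'
      rw [← QuotientGroup.eq_one_iff, hl] at this
      have e : orderOf ((π g) ^ i) = 1 := orderOf_eq_one_iff.mpr this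
      exact ht.ne_one (hu'.symm.trans e)
  have hrX : r ∣ Nat.card (G ⧸ Z) := Subgroup.index_eq_card Z ▸ hri
  by_cases hr2 : r = 2
  · subst hr2
    obtain ⟨τ, hτ⟩ := exists_prime_orderOf_dvd_card' 2 hrX
    have hτ1 : τ ≠ 1 := fun e => Nat.prime_two.ne_one (by rw [← hτ, e, orderOf_one])
    rcases CfsgLib.CaminaHerzog.exists_inverted_or_mem_two_core hτ with
      ⟨K, hK, hK2, hτK⟩ | ⟨c, hc1, hodd, hinv⟩
    · haveI := hK
      have := hE K hK2 (by rw [Subgroup.normalizer_eq_top K]; exact le_top)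
      exact hτ1 (Subgroup.mem_bot.mp (this ▸ hτK))
    · obtain ⟨t, ht, htd⟩ := Nat.exists_prime_and_dvd (fun e => hc1 (orderOf_eq_one_iff.mp e))
      haveI := Fact.mk ht
      obtain ⟨n, hn⟩ := id htd
      have ho : orderOf (c ^ n) = t := by
        rw [orderOf_pow_of_dvd (fun e => by rw [e, mul_zero] at hn; exact (orderOf_pos c).ne' hn)
          ⟨t, by rw [hn, mul_comm]⟩, hn, Nat.mul_div_cancel _ (Nat.pos_of_ne_zero fun e => by
            rw [e, mul_zero] at hn; exact (orderOf_pos c).ne' hn)]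
      refine hτ1 (h4 t ht (fun e => ?_) (c ^ n) τ ⟨1, by rw [pow_one, ho]⟩
        ⟨1, by rw [pow_one, hτ]⟩ (fun e => ht.ne_one (by rw [← ho, e, orderOf_one])) ?_)
      · subst e
        exact (Nat.not_even_iff_odd.mpr hodd) (even_iff_two_dvd.mpr htd)
      · rw [← conj_pow, hinv, inv_pow]
        exact inv_mem (Subgroup.mem_zpowers _)
  -- odd `r`
  obtain ⟨R⟩ : Nonempty (Sylow r (G ⧸ Z)) := inferInstance
  have hR1 : (R : Subgroup (G ⧸ Z)) ≠ ⊥ := R.ne_bot_of_dvd_card hrX
  have hcomap : (M.map π).comap π = M :=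
    Subgroup.comap_map_eq_self (by rw [QuotientGroup.ker_mk']; exact h.ti.le)
  have hMN : M < N := lt_of_le_of_ne Subgroup.le_normalizer fun e => by
    have := hMs.dvd_relIndex hlt
    rw [← hN, ← e, Subgroup.relIndex_self] at this
    exact hs.out.ne_one (Nat.dvd_one.mp this)
  have hRself : Subgroup.normalizer ((R : Subgroup (G ⧸ Z)) : Set (G ⧸ Z)) ≤
      (R : Subgroup (G ⧸ Z)) := by
    by_contra hnot
    refine not_cover (A := (R : Subgroup (G ⧸ Z))) (B := M.map π) ?_ ?_
      (lt_of_le_of_ne Subgroup.le_normalizer fun e => hnot e.ge) ?_ ?_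
    · intro e
      apply hns
      haveI hG : IsPGroup r (G ⧸ Z) := by
        have := R.2
        rw [e] at this
        exact this.of_equiv Subgroup.topEquiv
      haveI := hG.isNilpotent
      haveI : Group.IsSolvable Z :=
        Group.isSolvable_of_comm fun x y => Subtype.ext (Subgroup.mem_center_iff.mp y.2 x)
      exact Group.isSolvable_of_ker_le_range Z.subtype π
        (by rw [QuotientGroup.ker_mk', Subgroup.range_subtype])
    · intro e
      rw [e, Subgroup.comap_top] at hcomap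
      exact h.ti.ne_top hns hcomap.symm
    · refine lt_of_le_of_ne Subgroup.le_normalizer fun e => not_le_of_gt hMN ?_
      intro n hn
      have : π n ∈ M.map π := e.symm ▸ Subgroup.le_normalizer_map π ⟨n, hn, rfl⟩
      rw [← Subgroup.mem_comap, hcomap] at this
      exact this
    · intro x hx
      rcases hcases x hx with hxr | ⟨k, hk⟩
      · obtain ⟨P, hP⟩ := hxr.isPGroup.exists_le_sylow
        obtain ⟨k, rfl⟩ := MulAction.exists_smul_eq (G ⧸ Z) R P
        refine ⟨k⁻¹, Or.inl ?_⟩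
        have := hP (Subgroup.mem_zpowers x)
        rw [Sylow.coe_subgroup_smul, Subgroup.mem_pointwise_smul_iff_inv_smul_mem] at this
        rw [inv_inv]
        simpa [MulAut.smul_def, MulAut.conj_symm_apply] using this
      · exact ⟨k, Or.inr hk⟩
  obtain ⟨P, K, hK, hcompl⟩ := hasNormalPComplement_of_isolated hr2
    (fun t ht htr c g hc hg hcg hc1 => h.eq_one_of_commute ht htr hc hg hcg hc1) h4 R hR1 hRself
  haveI := hK
  -- the complement is the image of the normaliser
  have hKidx : ∃ i, K.index = r ^ i := by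
    rw [hcompl.symm.index_eq_card, P.card_eq_multiplicity]
    exact ⟨_, rfl⟩
  obtain ⟨i, hi⟩ := hKidx
  have hNle : N ≤ K.comap π := le_of_pEl fun t ht v hv hvt => by
    haveI := Fact.mk ht
    rw [Subgroup.mem_comap]
    rcases eq_or_ne t r with rfl | htr
    · rw [show π v = 1 from (QuotientGroup.eq_one_iff v).mpr (hNr v hv hvt)]
      exact one_mem _
    · obtain ⟨j, hj⟩ := hvt
      have hm := Subgroup.pow_index_mem K (π v)
      rw [hi] at hm
      obtain ⟨l, hl⟩ := exists_pow_eq_self_of_coprime (x := π v) (n := r ^ i)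
        (Nat.Coprime.coprime_dvd_right (hj ▸ orderOf_map_dvd π v)
          (((Nat.coprime_primes hr.out ht).mpr htr.symm).pow i j))
      exact hl ▸ K.pow_mem hm l
  have hNfull : ∀ t : ℕ, t.Prime → t ≠ r → vp t N = (Nat.card G).factorization t := by
    intro t ht htr
    rcases eq_or_ne t s with rfl | hts
    · exact hNs
    · exact le_antisymm ((Nat.factorization_le_iff_dvd Nat.card_pos.ne' Nat.card_pos.ne').mpr
        (Subgroup.card_subgroup_dvd_card _) t) (hfull t ht htr hts ▸ vp_le Subgroup.le_normalizer)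
  have hNidx : ∃ l, N.index = r ^ l := by
    refine ⟨_, Nat.eq_prime_pow_of_unique_prime_dvd Subgroup.index_ne_zero_of_finite
      fun {t} ht htd => ?_⟩
    by_contra htr
    have h2 := hNfull t ht htr
    rw [vp, ← Subgroup.card_mul_index N,
      Nat.factorization_mul Nat.card_pos.ne' Subgroup.index_ne_zero_of_finite,
      Finsupp.add_apply] at h2
    have := ht.factorization_pos_of_dvd Subgroup.index_ne_zero_of_finite htd
    omega
  have hKcard : Nat.card (K.comap π) = Nat.card Z * Nat.card K := by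
    have h1 := Subgroup.card_mul_index (K.comap π)
    rw [Subgroup.index_comap_of_surjective K hπ, ← Subgroup.card_mul_index Z,
      Subgroup.index_eq_card Z, ← Subgroup.card_mul_index K, ← mul_assoc] at h1
    exact mul_right_cancel₀ Subgroup.index_ne_zero_of_finite h1
  have hKr : ¬ r ∣ Nat.card K := fun hd => P.not_dvd_index (hcompl.index_eq_card ▸ hd)
  have hKeq : N = K.comap π := Subgroup.eq_of_le_of_card_ge hNle (Nat.le_of_dvd Nat.card_pos (by
    rw [← Nat.factorization_le_iff_dvd Nat.card_pos.ne' Nat.card_pos.ne']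
    intro t
    by_cases ht : t.Prime
    swap
    · rw [Nat.factorization_eq_zero_of_not_prime _ ht]; exact Nat.zero_le _
    rcases eq_or_ne t r with rfl | htr
    · rw [hKcard, Nat.factorization_mul Nat.card_pos.ne' Nat.card_pos.ne', Finsupp.add_apply,
        Nat.factorization_eq_zero_of_not_dvd hKr, add_zero]
      exact vp_le (h.ti.le.trans Subgroup.le_normalizer)
    · refine ((Nat.factorization_le_iff_dvd Nat.card_pos.ne' Nat.card_pos.ne').mpr
        (Subgroup.card_subgroup_dvd_card _) t).trans (hNfull t ht htr).ge))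
  haveI hNn : N.Normal := hKeq ▸ hK.comap π
  -- solvability
  haveI : Group.IsSolvable N := by
    haveI hMn : (M.subgroupOf N).Normal := Subgroup.normal_subgroupOf_of_le_normalizer le_rfl
    obtain ⟨Q, hQ⟩ := hp.exists_conjSemi
    obtain ⟨Q', hQ'⟩ := hMs.exists_conjSemi
    have hne : Nat.card (N ⧸ M.subgroupOf N) ≠ 0 := Nat.card_pos.ne'
    have hpw := Nat.eq_prime_pow_of_unique_prime_dvd (p := s) hne fun {t} ht htd =>
      hQ.eq_of_dvd hQ' hsp (hMs.dvd_relIndex hlt) ht (card_quotient_subgroupOf N M ▸ htd)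
    haveI := (IsPGroup.of_card hpw).isNilpotent
    haveI : Group.IsSolvable (M.subgroupOf N) := Group.isSolvable_of_comm fun x y =>
      Subtype.ext (Subtype.ext (congrArg Subtype.val (h.ti.comm.is_comm.comm
        ⟨((x : N) : G), x.2⟩ ⟨((y : N) : G), y.2⟩) : _))
    exact Group.isSolvable_of_ker_le_range (M.subgroupOf N).subtype (QuotientGroup.mk' (M.subgroupOf N))
      (by rw [QuotientGroup.ker_mk', Subgroup.range_subtype])
  obtain ⟨l, hl⟩ := hNidx
  haveI := (IsPGroup.of_card (G := G ⧸ N) (p := r) (n := l)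
    (by rw [← Subgroup.index_eq_card, hl])).isNilpotent
  exact hns (Group.isSolvable_of_ker_le_range N.subtype (QuotientGroup.mk' N)
    (by rw [QuotientGroup.ker_mk', Subgroup.range_subtype]))

end CfsgLib.ClassSizesThree
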