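import Mathlib
import Cfsg.Agent.Lib.ClassSizesThree.Isolated

/-!
Three class sizes, none of the non-trivial ones dividing the other: solvability.
-/

set_option autoImplicit false
set_option linter.unusedSectionVars false
set_option linter.style.haveILetI false

namespace CfsgLib.ClassSizesThree

variable {G : Type*} [Group G] [Finite G]

variable (G) in
/-- No centraliser of a non-central element is properly contained in another. -/
def NoChain : Prop :=
  ∀ g w : G, g ∉ Subgroup.center G → w ∉ Subgroup.center G → C g ≤ C w → C g = C w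

theorem Sizes.noChain {a b : ℕ} (h : Sizes G a b) (hba : ¬ b ∣ a) : NoChain G := by
  intro g w hg hw hle
  refine Subgroup.eq_of_le_of_card_ge hle ?_
  have hd := Subgroup.card_dvd_of_le hle
  rcases h.size g hg with e1 | e1 <;> rcases h.size w hw with e2 | e2 <;> rw [e1, e2] at hd <;>
    rw [e1, e2]
  · exact absurd (Nat.le_of_dvd h.b_pos hd) (not_le.mpr h.lt)
  · exact absurd hd hba

/-- `X` exceeds the centre at two primes. -/
def Multi (G : Type*) [Group G] (X : ℕ) : Prop :=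
  ∃ t₁ t₂ : ℕ, t₁.Prime ∧ t₂.Prime ∧ t₁ ≠ t₂ ∧
    vp t₁ (Subgroup.center G) < X.factorization t₁ ∧ vp t₂ (Subgroup.center G) < X.factorization t₂

/-- A prime carrying everything if `X` is not multiple. -/
theorem exists_single {X : ℕ} (h : ¬ Multi G X) : ∃ r : ℕ, r.Prime ∧
    ∀ t : ℕ, t.Prime → t ≠ r → X.factorization t ≤ vp t (Subgroup.center G) := by
  by_cases hex : ∃ r : ℕ, r.Prime ∧ vp r (Subgroup.center G) < X.factorization r
  · obtain ⟨r, hr, hlt⟩ := hex
    exact ⟨r, hr, fun t ht htr => not_lt.mp fun hlt' => h ⟨t, r, ht, hr, htr, hlt', hlt⟩⟩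
  · push Not at hex
    exact ⟨2, Nat.prime_two, fun t ht _ => hex t ht⟩

theorem NoChain.mem_center_of_le {X : ℕ} {g v : G} {t : ℕ} [Fact t.Prime]
    (hg : Nat.card (C g) = X) (hle : X.factorization t ≤ vp t (Subgroup.center G)) (hv : v ∈ C g)
    (hvt : IsPEl t v) : v ∈ Subgroup.center G := by
  by_contra hvZ
  have := vp_center_lt (center_le_C g) hv hvt hvZ
  simp only [vp, hg] at this
  exact absurd this (not_lt.mpr hle)

/-- A centraliser with two primes outside the centre is abelian and TI. -/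
theorem NoChain.ti (h : NoChain G) {g : G} (hg : g ∉ Subgroup.center G)
    (hm : Multi G (Nat.card (C g))) : TI (C g) := by
  obtain ⟨t₁, t₂, ht₁, ht₂, hne, hlt₁, hlt₂⟩ := hm
  obtain ⟨t₀, ht₀, y, hyg, hyt, hyZ⟩ := exists_primePart hg
  haveI := ht₀
  have hC : C g = C y := h g y hg hyZ (C_le_of_mem_zpowers hyg)
  obtain ⟨t, ht, htne, hlt⟩ : ∃ t : ℕ, t.Prime ∧ t ≠ t₀ ∧
      vp t (Subgroup.center G) < vp t (C g) := by
    rcases eq_or_ne t₁ t₀ with e | e
    · exact ⟨t₂, ht₂, fun e' => hne (e.trans e'.symm), hlt₂⟩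
    · exact ⟨t₁, ht₁, e, hlt₁⟩
  haveI := Fact.mk ht
  obtain ⟨w, hw, hwt, hwZ⟩ := exists_pEl_notMem_of_vp_lt hlt
  rw [hC] at hw ⊢
  have hcop : ∀ {q q' : ℕ} [Fact q.Prime] [Fact q'.Prime] {y v : G}, y ∉ Subgroup.center G →
      IsPEl q y → IsPEl q' v → q ≠ q' → v ∈ C y → C y ≤ C v := by
    intro q q' _ _ y v hy hyq hvq hne hv
    have hco := hyq.coprime hne hvq
    have hc := (mem_C.mp hv).symm
    have hZ : y * v ∉ Subgroup.center G := fun hz => hy (C_eq_top_iff.mp (eq_top_iff.mpr (by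
      rw [← C_eq_top_iff.mpr hz, C_mul hc hco]; exact inf_le_left)))
    have e := h (y * v) y hZ hy (by rw [C_mul hc hco]; exact inf_le_left)
    rw [C_mul hc hco] at e
    exact e.ge.trans inf_le_right
  have hyw : C y = C w := h y w hyZ hwZ (hcop hyZ hyt hwt htne.symm hw)
  have hM : IsMulCommutative (C y) := isMulCommutative_of_pEl fun q hq v hv hvq => by
    haveI := Fact.mk hq
    rcases eq_or_ne q t₀ with rfl | hqt
    · rw [hyw] at hv ⊢
      exact hcop hwZ hwt hvq htne hv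
    · exact hcop hyZ hyt hvq hqt.symm hv
  exact ⟨hM, center_le_C y, fun v hv hvZ => (h y v hyZ hvZ (le_C_of_comm hM hv)).symm⟩

/-- At most one prime is neither central nor full in a TI subgroup. -/
theorem TI.vp_eq_of_ne {M : Subgroup G} (h : TI M) {s t : ℕ} [Fact s.Prime] [Fact t.Prime]
    (hst : s ≠ t) (hs : vp s (Subgroup.center G) < vp s M)
    (hs' : vp s M < (Nat.card G).factorization s) (ht : vp t (Subgroup.center G) < vp t M) :
    vp t M = (Nat.card G).factorization t := by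
  refine le_antisymm ((Nat.factorization_le_iff_dvd Nat.card_pos.ne' Nat.card_pos.ne').mpr
    (Subgroup.card_subgroup_dvd_card M) t) (not_lt.mp fun hlt => ?_)
  exact false_of_parts hst (h.part hs) (h.part ht) hs' hlt

/-- All centralisers of a multiple order are conjugate. -/
theorem NoChain.exists_conj (h : NoChain G) {X : ℕ} (hm : Multi G X) {g₀ g : G}
    (hg₀ : g₀ ∉ Subgroup.center G) (h₀ : Nat.card (C g₀) = X) (hg : g ∉ Subgroup.center G)
    (hgX : Nat.card (C g) = X) : ∃ k : G, k * g * k⁻¹ ∈ C g₀ := by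
  have hM := h.ti hg₀ (h₀.symm ▸ hm)
  have hM' := h.ti hg (hgX.symm ▸ hm)
  obtain ⟨t₁, t₂, ht₁, ht₂, hne, hlt₁, hlt₂⟩ := hm
  have hvX : ∀ t, vp t (C g₀) = X.factorization t := fun t => by rw [vp, h₀]
  obtain ⟨t, ht, hlt, hfull⟩ : ∃ t : ℕ, t.Prime ∧ vp t (Subgroup.center G) < vp t (C g₀) ∧
      vp t (C g₀) = (Nat.card G).factorization t := by
    haveI := Fact.mk ht₁
    haveI := Fact.mk ht₂
    by_cases hf : vp t₁ (C g₀) = (Nat.card G).factorization t₁
    · exact ⟨t₁, ht₁, by rw [hvX]; exact hlt₁, hf⟩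
    · exact ⟨t₂, ht₂, by rw [hvX]; exact hlt₂, hM.vp_eq_of_ne hne (by rw [hvX]; exact hlt₁)
        (lt_of_le_of_ne ((Nat.factorization_le_iff_dvd Nat.card_pos.ne' Nat.card_pos.ne').mpr
          (Subgroup.card_subgroup_dvd_card _) t₁) hf) (by rw [hvX]; exact hlt₂)⟩
  haveI := Fact.mk ht
  obtain ⟨T₀, hT₀, hT₀p, hT₀c⟩ := exists_sylow_of_le (p := t) (C g₀)
  obtain ⟨T, hT, hTp, hTc⟩ := exists_sylow_of_le (p := t) (C g)
  rw [hfull] at hT₀c
  rw [show vp t (C g) = vp t (C g₀) from vp_congr (hgX.trans h₀.symm), hfull] at hTc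
  obtain ⟨k, hk⟩ := MulAction.exists_smul_eq G (Sylow.ofCard T hTc) (Sylow.ofCard T₀ hT₀c)
  obtain ⟨v, hv, hvZ⟩ : ∃ v ∈ T, v ∉ Subgroup.center G := by
    by_contra hcon
    push Not at hcon
    have := card_le_of_isPGroup hTp hcon
    rw [hTc, ← hfull] at this
    exact absurd ((Nat.pow_le_pow_iff_right ht.one_lt).mp this) (not_le.mpr hlt)
  have hkv : k * v * k⁻¹ ∈ C g₀ := hT₀ (by
    have : MulAut.conj k v ∈ ((k • Sylow.ofCard T hTc : Sylow t G) : Subgroup G) := by
      rw [Sylow.coe_subgroup_smul, Sylow.coe_ofCard]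
      exact Subgroup.smul_mem_pointwise_smul v _ _ hv
    rwa [hk, Sylow.coe_ofCard] at this)
  refine ⟨k, ?_⟩
  rw [← hM.cEq _ hkv fun hz => hvZ (mem_center_of_conj hz), C_conj, hM'.cEq v (hT hv) hvZ]
  exact ⟨g, self_mem_C g, rfl⟩

theorem TI.map_ne_top {M : Subgroup G} (h : TI M) (hns : ¬ Group.IsSolvable G) :
    M.map (QuotientGroup.mk' (Subgroup.center G)) ≠ ⊤ := by
  intro e
  have hcomap : (M.map (QuotientGroup.mk' (Subgroup.center G))).comap
      (QuotientGroup.mk' (Subgroup.center G)) = M :=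
    Subgroup.comap_map_eq_self (by rw [QuotientGroup.ker_mk']; exact h.le)
  rw [e, Subgroup.comap_top] at hcomap
  exact h.ne_top hns hcomap.symm

theorem TI.map_lt_normalizer {M : Subgroup G} (h : TI M)
    (hlt : ¬ Subgroup.normalizer (M : Set G) ≤ M) :
    M.map (QuotientGroup.mk' (Subgroup.center G)) < Subgroup.normalizer
      ((M.map (QuotientGroup.mk' (Subgroup.center G)) : Subgroup _) : Set _) := by
  refine lt_of_le_of_ne Subgroup.le_normalizer fun e => hlt fun n hn => ?_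
  have : QuotientGroup.mk' (Subgroup.center G) n ∈ M.map (QuotientGroup.mk' (Subgroup.center G)) :=
    e.symm ▸ Subgroup.le_normalizer_map _ ⟨n, hn, rfl⟩
  rw [← Subgroup.mem_comap,
    Subgroup.comap_map_eq_self (by rw [QuotientGroup.ker_mk']; exact h.le)] at this
  exact this

theorem NoChain.false_of_multi (h : NoChain G) (hns : ¬ Group.IsSolvable G) {X Y : ℕ}
    (hXY : X ≠ Y) (hsize : ∀ g : G, g ∉ Subgroup.center G →
      Nat.card (C g) = X ∨ Nat.card (C g) = Y) {g₀ g₁ : G} (hg₀ : g₀ ∉ Subgroup.center G)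
    (h₀ : Nat.card (C g₀) = X) (hg₁ : g₁ ∉ Subgroup.center G) (h₁ : Nat.card (C g₁) = Y)
    (hm : Multi G X) : False := by
  classical
  set Z := Subgroup.center G
  have hM := h.ti hg₀ (h₀.symm ▸ hm)
  set M := C g₀
  have hvM : ∀ t, vp t M = X.factorization t := fun t => by rw [vp, h₀]
  by_cases hmY : Multi G Y
  · have hM₁ := h.ti hg₁ (h₁.symm ▸ hmY)
    by_cases hN : Subgroup.normalizer (M : Set G) ≤ M
    · obtain ⟨t, -, ht, -, -, hlt, -⟩ := hm
      exact hM.false_of_self hns ⟨t, ht, by rw [hvM]; exact hlt⟩ hN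
    by_cases hN₁ : Subgroup.normalizer ((C g₁) : Set G) ≤ C g₁
    · obtain ⟨t, -, ht, -, -, hlt, -⟩ := hmY
      exact hM₁.false_of_self hns ⟨t, ht, by simp only [vp, h₁]; exact hlt⟩ hN₁
    refine not_cover (hM.map_ne_top hns) (hM₁.map_ne_top hns) (hM.map_lt_normalizer hN)
      (hM₁.map_lt_normalizer hN₁) fun x hx => ?_
    obtain ⟨g, rfl⟩ := QuotientGroup.mk'_surjective Z x
    have hgZ : g ∉ Z := fun hz => hx ((QuotientGroup.eq_one_iff g).mpr hz)
    rcases hsize g hgZ with e | e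
    · obtain ⟨k, hk⟩ := h.exists_conj hm hg₀ h₀ hgZ e
      exact ⟨QuotientGroup.mk' Z k, Or.inl ⟨_, hk, by rw [map_mul, map_mul, map_inv]⟩⟩
    · obtain ⟨k, hk⟩ := h.exists_conj hmY hg₁ h₁ hgZ e
      exact ⟨QuotientGroup.mk' Z k, Or.inr ⟨_, hk, by rw [map_mul, map_mul, map_inv]⟩⟩
  obtain ⟨r, hr, hrle⟩ := exists_single hmY
  haveI := Fact.mk hr
  have hsingle : ∀ g : G, Nat.card (C g) = Y → ∀ t : ℕ, t.Prime → t ≠ r → ∀ v ∈ C g,
      IsPEl t v → v ∈ Z := fun g hg t ht htr v hv hvt => by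
    haveI := Fact.mk ht
    exact NoChain.mem_center_of_le hg (hrle t ht htr) hv hvt
  have hTlt : ∀ t : ℕ, t.Prime → t ≠ r → t ∣ Z.index → vp t Z < vp t M := by
    intro t ht htr hti
    haveI := Fact.mk ht
    obtain ⟨v, hvt, hvZ⟩ := exists_pEl_notMem hti
    rcases hsize v hvZ with e | e
    · rw [show vp t M = vp t (C v) from vp_congr (h₀.trans e.symm)]
      exact vp_center_lt (center_le_C v) (self_mem_C v) hvt hvZ
    · exact absurd (hsingle v e t ht htr v (self_mem_C v) hvt) hvZ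
  have hle : ∀ t, vp t M ≤ (Nat.card G).factorization t := fun t =>
    (Nat.factorization_le_iff_dvd Nat.card_pos.ne' Nat.card_pos.ne').mpr
      (Subgroup.card_subgroup_dvd_card M) t
  have hdvd : ∀ t : ℕ, t.Prime → vp t M < (Nat.card G).factorization t → t ∣ Z.index := by
    intro t ht hlt
    by_contra hnd
    have h2 := vp_le (p := t) hM.le
    rw [← Subgroup.card_mul_index Z, Nat.factorization_mul Nat.card_pos.ne'
      Subgroup.index_ne_zero_of_finite, Finsupp.add_apply,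
      Nat.factorization_eq_zero_of_not_dvd hnd, add_zero] at hlt
    exact absurd h2 (not_le.mpr hlt)
  by_cases hs : ∃ s : ℕ, s.Prime ∧ s ≠ r ∧ vp s M < (Nat.card G).factorization s
  swap
  · push Not at hs
    exact hns (isSolvable_of_almost_full (s := r) hM.comm fun t ht htr =>
      le_antisymm (hle t) (hs t ht htr))
  obtain ⟨s, hs, hsr, hslt⟩ := hs
  haveI := Fact.mk hs
  have hsi := hdvd s hs hslt
  have hsZ := hTlt s hs hsr hsi
  have hfull : ∀ t : ℕ, t.Prime → t ≠ r → t ≠ s → vp t M = (Nat.card G).factorization t := by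
    intro t ht htr hts
    haveI := Fact.mk ht
    by_contra hne
    have hlt := (hle t).lt_of_ne hne
    exact hne (hM.vp_eq_of_ne hts.symm hsZ hslt (hTlt t ht htr (hdvd t ht hlt)))
  -- an `r`-element with the second order
  obtain ⟨t₀, ht₀, y, hyg, hyt, hyZ⟩ := exists_primePart hg₁
  haveI := ht₀
  have hCy : Nat.card (C y) = Y := by
    rw [← h g₁ y hg₁ hyZ (C_le_of_mem_zpowers hyg), h₁]
  obtain rfl : t₀ = r := by
    by_contra hne
    exact hyZ (hsingle y hCy t₀ ht₀.out hne y (self_mem_C y) hyt)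
  have hri := dvd_index_center hyt hyZ
  have hrM : vp t₀ M = vp t₀ Z := by
    refine le_antisymm (not_lt.mp fun hlt => hXY ?_) (vp_le hM.le)
    have hrfull := hM.vp_eq_of_ne hsr hsZ hslt hlt
    obtain ⟨T, hT, hTp, hTc⟩ := exists_sylow_of_le (p := t₀) M
    rw [hrfull] at hTc
    obtain ⟨P, hP⟩ := hyt.isPGroup.exists_le_sylow
    obtain ⟨k, hk⟩ := MulAction.exists_smul_eq G P (Sylow.ofCard T hTc)
    have hky : k * y * k⁻¹ ∈ M := hT (by
      have : MulAut.conj k y ∈ ((k • P : Sylow t₀ G) : Subgroup G) := by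
        rw [Sylow.coe_subgroup_smul]
        exact Subgroup.smul_mem_pointwise_smul y _ _ (hP (Subgroup.mem_zpowers y))
      rwa [hk, Sylow.coe_ofCard] at this)
    rw [← h₀, ← hCy, ← card_C_conj k y]
    exact (congrArg (fun H : Subgroup G => Nat.card H)
      (hM.cEq _ hky fun hz => hyZ (mem_center_of_conj hz))).symm
  obtain ⟨p, hp, hpi, hpr, hps⟩ := exists_third_prime hns hr hs
  haveI := Fact.mk hp
  refine hns (Isolated.isSolvable (M := M) (r := t₀) ⟨hM, fun g hg => ?_, hrM⟩ hps.symm hsr.symm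
    (hM.part (hTlt p hp hpr hpi)) (hM.part hsZ) hslt hsi hri hfull)
  rcases hsize g hg with e | e
  · exact Or.inl (h.exists_conj hm hg₀ h₀ hg e)
  · exact Or.inr (hsingle g e)

/-- Two centraliser orders, neither dividing the other. -/
theorem Sizes.false_of_not_dvd {a b : ℕ} (h : Sizes G a b) (hba : ¬ b ∣ a)
    (hns : ¬ Group.IsSolvable G) : False := by
  obtain ⟨x, hx, hxa⟩ := h.exA
  obtain ⟨y, hy, hyb⟩ := h.exB
  by_cases hma : Multi G a
  · exact (h.noChain hba).false_of_multi hns h.lt.ne' h.size hx hxa hy hyb hma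
  by_cases hmb : Multi G b
  · exact (h.noChain hba).false_of_multi hns h.lt.ne (fun g hg => (h.size g hg).symm) hy hyb hx
      hxa hmb
  obtain ⟨ra, hra, hla⟩ := exists_single hma
  obtain ⟨rb, hrb, hlb⟩ := exists_single hmb
  obtain ⟨r, hr, hri, hrna, hrnb⟩ := exists_third_prime hns hra hrb
  haveI := Fact.mk hr
  obtain ⟨v, hvr, hvZ⟩ := exists_pEl_notMem hri
  rcases h.size v hvZ with e | e
  · exact hvZ (NoChain.mem_center_of_le e (hla r hr hrna) (self_mem_C v) hvr)
  · exact hvZ (NoChain.mem_center_of_le e (hlb r hr hrnb) (self_mem_C v) hvr)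

end CfsgLib.ClassSizesThree
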